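import Cfsg.Agent.Lib.CIT.Suz.Modules
import Cfsg.Agent.Lib.CIT.Basic

/-!
# Two-groups extended by a Suzuki group in a CIT group

A normal two-subgroup with Suzuki quotient in a group in which no nontrivial element of odd order
centralises an involution is elementary abelian.
-/

set_option autoImplicit false
set_option linter.unusedSectionVars false
set_option linter.style.haveILetI false

namespace CfsgLib.CIT.Suz

open CfsgLib.Lie.Suz
open QuotientGroup (mk')

universe u

variable {F : Type} [Field F] [Fintype F] {m : ℕ} (hm : 1 ≤ m)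
  (hF : Fintype.card F = 2 ^ (2 * m + 1))

/-- An abelian normal two-subgroup centralised by the kernel of a map onto a Suzuki group is a fixed
point free module. -/
theorem exists_module {G : Type u} [Group G] [Finite G] (hc : IsCIT G) (π : G →* Cfsg.Sz F m)
    (hπ : Function.Surjective π) (A : Subgroup G) [A.Normal] (hA : IsPGroup 2 A)
    (hab : ∀ a ∈ A, ∀ b ∈ A, a * b = b * a) (hk : ∀ g, π g = 1 → ∀ a ∈ A, g * a = a * g) :
    ∃ (V : Type u) (_ : AddCommGroup V) (_ : DistribMulAction (Cfsg.Sz F m) V) (_ : Finite V)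
      (ι : V → G), Function.Injective ι ∧ (∀ v, ι v ∈ A) ∧ (∀ a ∈ A, ∃ v, ι v = a) ∧
      (∀ v w, ι (v + w) = ι v * ι w) ∧ (∀ (g : G) v, ι (π g • v) = g * ι v * g⁻¹) ∧
      FPF (m := m) hF V := by
  letI : CommGroup A :=
    { (inferInstance : Group A) with mul_comm := fun a b => Subtype.ext (hab a a.2 b b.2) }
  obtain ⟨c, hcA⟩ : ∃ c : G →* AddMonoid.End (Additive A),
      ∀ g a, ((Additive.toMul (c g a) : A) : G) = g * ((Additive.toMul a : A) : G) * g⁻¹ :=
    ⟨{ toFun := fun g => (MonoidHom.toAdditive (MulEquiv.toMonoidHom (MulAut.conjNormal g : MulAut A)) : AddMonoid.End (Additive A))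
       map_one' := AddMonoidHom.ext fun a : Additive A => congrArg Additive.ofMul
         (DFunLike.congr_fun (map_one (MulAut.conjNormal : G →* MulAut A)) (Additive.toMul a))
       map_mul' := fun g h => AddMonoidHom.ext fun a : Additive A => congrArg Additive.ofMul
         (DFunLike.congr_fun (map_mul (MulAut.conjNormal : G →* MulAut A) g h) (Additive.toMul a)) },
      fun g a => MulAut.conjNormal_apply g (Additive.toMul a)⟩
  have hle : π.ker ≤ c.ker := fun q hq => MonoidHom.mem_ker.2 (DFunLike.ext _ _ fun a =>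
    Additive.toMul.injective (Subtype.ext (by
      rw [hcA, hk q (MonoidHom.mem_ker.1 hq) _ (Additive.toMul a).2, mul_inv_cancel_right]
      rfl)))
  have hwd : ∀ g g', π g = π g' → c g = c g' := fun g g' h => by
    have h1 : g'⁻¹ * g ∈ c.ker := hle (MonoidHom.mem_ker.2 (by rw [map_mul, map_inv, h, inv_mul_cancel]))
    rw [show g = g' * (g'⁻¹ * g) by group, map_mul, MonoidHom.mem_ker.1 h1, mul_one]
  obtain ⟨σ, hσ⟩ : ∃ σ : Cfsg.Sz F m → G, ∀ s, π (σ s) = s := ⟨Function.surjInv hπ, Function.surjInv_eq hπ⟩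
  obtain ⟨ρ, hρ⟩ : ∃ ρ : Cfsg.Sz F m →* AddMonoid.End (Additive A), ∀ g, ρ (π g) = c g :=
    ⟨{ toFun := fun s => c (σ s)
       map_one' := (hwd _ 1 (by rw [hσ, map_one])).trans (map_one c)
       map_mul' := fun s t => (hwd _ (σ s * σ t) (by rw [hσ, map_mul, hσ, hσ])).trans (map_mul c _ _) },
      fun g => hwd _ _ (hσ _)⟩
  letI : DistribMulAction (Cfsg.Sz F m) (Additive A) :=
    { smul := fun s a => ρ s a
      one_smul := fun a => by show ρ 1 a = a; rw [map_one]; rfl
      mul_smul := fun s t a => by show ρ (s * t) a = ρ s (ρ t a); rw [map_mul]; rfl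
      smul_zero := fun s => map_zero (ρ s)
      smul_add := fun s a b => map_add (ρ s) a b }
  have hact : ∀ (g : G) (v : Additive A),
      ((Additive.toMul (π g • v) : A) : G) = g * ((Additive.toMul v : A) : G) * g⁻¹ := fun g v => by
    rw [show π g • v = ρ (π g) v from rfl, hρ, hcA]
  refine ⟨Additive A, inferInstance, inferInstance, inferInstance, fun v => ((Additive.toMul v : A) : G),
    Subtype.val_injective.comp Additive.toMul.injective, fun v => (Additive.toMul v).2,
    fun a ha => ⟨Additive.ofMul ⟨a, ha⟩, rfl⟩, fun v w => rfl, hact, fun v hv => ?_⟩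
  obtain ⟨x, hx⟩ := hπ (gFive (m := m) hF)
  haveI : Fact (Nat.Prime 5) := ⟨Nat.prime_five⟩
  have h5 : orderOf (π x) = 5 := by
    rw [hx]; exact orderOf_eq_prime (gFive_rel hF).1 (gFive_rel hF).2.1
  obtain ⟨y, hyo, hy⟩ := exists_odd_preimage π (x := x) (by rw [h5]; decide)
  have hy1 : y ≠ 1 := fun e => (gFive_rel (m := m) hF).2.1 (by rw [← hx, ← hy, e, map_one])
  have h := hact y v
  rw [hy, hx, hv] at h
  refine Additive.toMul.injective (Subtype.ext ?_)
  rw [hc.fpf hA (Additive.toMul v).2 hyo hy1 (eq_mul_inv_iff_mul_eq.1 h).symm]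
  rfl

include hm hF in
/-- A normal two-subgroup with Suzuki quotient in a CIT group has exponent two. -/
theorem sq_one_of_suz : ∀ (n : ℕ) {G : Type u} [Group G] [Finite G], IsCIT G →
    ∀ (N : Subgroup G) [N.Normal], Nat.card N ≤ n → IsPGroup 2 N → (G ⧸ N ≃* Cfsg.Sz F m) →
      ∀ a ∈ N, a * a = 1 := by
  intro n
  induction n with
  | zero =>
    intro G _ _ _ N _ hn _ _
    exact absurd hn (Nat.not_le.2 Nat.card_pos)
  | succ n ih =>
    intro G _ _ hc N _ hn hN e
    classical
    haveI : Fact (Nat.Prime 2) := ⟨Nat.prime_two⟩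
    rcases subsingleton_or_nontrivial N with hs | hs
    · intro a ha
      rw [show a = 1 from congrArg Subtype.val (hs.elim ⟨a, ha⟩ 1), one_mul]
    -- the central involutions
    let A : Subgroup G :=
      { carrier := {x | x ∈ N ∧ (∀ q ∈ N, q * x = x * q) ∧ x * x = 1}
        one_mem' := ⟨one_mem N, fun q _ => by rw [mul_one, one_mul], one_mul 1⟩
        mul_mem' := fun {x y} hx hy => ⟨mul_mem hx.1 hy.1, fun q hq => by
            rw [← mul_assoc, hx.2.1 q hq, mul_assoc, hy.2.1 q hq, mul_assoc],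
          by rw [show x * y * (x * y) = x * (y * x) * y by group, hx.2.1 y hy.1, show x * (x * y) * y = x * x * (y * y) by group, hx.2.2, hy.2.2, one_mul]⟩
        inv_mem' := fun {x} hx => ⟨inv_mem hx.1,
          fun q hq => (show Commute q x from hx.2.1 q hq).inv_right.eq,
          by rw [← mul_inv_rev, hx.2.2, inv_one]⟩ }
    haveI hAn : A.Normal := ⟨fun x hx g => ⟨(inferInstance : N.Normal).conj_mem x hx.1 g, fun q hq => by
        have h := hx.2.1 (g⁻¹ * q * g) (by simpa using (inferInstance : N.Normal).conj_mem q hq g⁻¹)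
        calc q * (g * x * g⁻¹) = g * ((g⁻¹ * q * g) * x) * g⁻¹ := by group
          _ = g * (x * (g⁻¹ * q * g)) * g⁻¹ := by rw [h]
          _ = g * x * g⁻¹ * q := by group,
      by rw [show g * x * g⁻¹ * (g * x * g⁻¹) = g * (x * x) * g⁻¹ by group, hx.2.2, mul_one, mul_inv_cancel]⟩⟩
    have hAN : A ≤ N := fun x hx => hx.1
    have hA2 : 2 ≤ Nat.card A := by
      haveI := hN.center_nontrivial
      obtain ⟨k, hkc⟩ := (hN.to_subgroup (Subgroup.center N)).exists_card_eq
      have hd : 2 ∣ Nat.card (Subgroup.center N) := by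
        have h1 : 1 < Nat.card (Subgroup.center N) := Finite.one_lt_card
        rw [hkc] at h1 ⊢
        exact dvd_pow_self 2 (fun e => by rw [e, pow_zero] at h1; omega)
      obtain ⟨z, hz⟩ := exists_prime_orderOf_dvd_card' 2 hd
      have hz2 := pow_orderOf_eq_one z
      rw [hz, pow_two] at hz2
      haveI : Nontrivial A := ⟨⟨⟨((z : N) : G), (z : N).2, fun q hq =>
          congrArg Subtype.val (Subgroup.mem_center_iff.1 z.2 ⟨q, hq⟩),
          congrArg (fun w : Subgroup.center N => ((w : N) : G)) hz2⟩, 1, fun h => by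
        have : z = 1 := Subtype.ext (Subtype.ext (congrArg Subtype.val h :))
        rw [this, orderOf_one] at hz
        omega⟩⟩
      exact Finite.one_lt_card
    -- induction
    haveI : (N.map (mk' A)).Normal := Subgroup.Normal.map ‹N.Normal› _ (QuotientGroup.mk'_surjective A)
    have hN' : IsPGroup 2 (N.map (mk' A)) := hN.map _
    have hcard : Nat.card (N.map (mk' A)) ≤ n := by
      have h1 : Nat.card (N.map (mk' A)) * Nat.card A = Nat.card N := by
        have h := Subgroup.card_mul_index ((mk' A).subgroupMap N).ker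
        have e1 : Nat.card ((mk' A).subgroupMap N).ker = Nat.card A := by
          refine Nat.card_congr ⟨fun x => ⟨(x : N), (QuotientGroup.eq_one_iff _).1 (congrArg Subtype.val x.2)⟩,
            fun z => ⟨⟨z, hAN z.2⟩, Subtype.ext ((QuotientGroup.eq_one_iff _).2 z.2)⟩,
            fun x => rfl, fun z => rfl⟩
        rw [Subgroup.index_ker, MonoidHom.range_eq_top.2 ((mk' A).subgroupMap_surjective N),
          Subgroup.card_top, e1, mul_comm] at h
        exact h
      have h3 : 0 < Nat.card (N.map (mk' A)) := Nat.card_pos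
      nlinarith
    have hc' : IsCIT (G ⧸ A) := hc.quotient A (hN.to_le hAN)
    let e' : (G ⧸ A) ⧸ N.map (mk' A) ≃* Cfsg.Sz F m :=
      (QuotientGroup.quotientQuotientEquivQuotient A N hAN).trans e
    have hsq' := ih hc' (N.map (mk' A)) hcard hN' e'
    have hcomm' : ∀ a ∈ N.map (mk' A), ∀ b ∈ N.map (mk' A), a * b = b * a := fun a ha b hb => by
      rw [← inv_eq_of_mul_eq_one_right (hsq' _ (mul_mem ha hb)), mul_inv_rev,
        inv_eq_of_mul_eq_one_right (hsq' a ha), inv_eq_of_mul_eq_one_right (hsq' b hb)]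
    have hmk : ∀ {a : G}, a ∈ N → mk' A a ∈ N.map (mk' A) := fun ha => Subgroup.mem_map_of_mem _ ha
    have hsqA : ∀ a ∈ N, a * a ∈ A := fun a ha =>
      (QuotientGroup.eq_one_iff _).1 (show mk' A (a * a) = 1 by rw [map_mul]; exact hsq' _ (hmk ha))
    have hcomA : ∀ a ∈ N, ∀ b ∈ N, a * b * a⁻¹ * b⁻¹ ∈ A := fun a ha b hb =>
      (QuotientGroup.eq_one_iff _).1 (show mk' A (a * b * a⁻¹ * b⁻¹) = 1 by
        simp only [map_mul, map_inv, hcomm' _ (hmk ha) _ (hmk hb)]; group)
    -- the two modules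
    set π : G →* Cfsg.Sz F m := e.toMonoidHom.comp (mk' N) with hπdef
    have hπs : Function.Surjective π := e.surjective.comp (QuotientGroup.mk'_surjective N)
    have hπk : ∀ g, π g = 1 → g ∈ N := fun g hg =>
      (QuotientGroup.eq_one_iff g).1 (e.injective (hg.trans (map_one e).symm))
    obtain ⟨V, _, _, _, ι, hιi, hιA, hιs, hιm, hιg, hV⟩ := exists_module hF hc π hπs A (hN.to_le hAN)
      (fun a ha b hb => hb.2.1 a ha.1) fun g hg a ha => ha.2.1 g (hπk g hg)
    set π' : G ⧸ A →* Cfsg.Sz F m := e'.toMonoidHom.comp (mk' (N.map (mk' A))) with hπ'def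
    obtain ⟨V', _, _, _, ι', hι'i, hι'A, hι's, hι'm, hι'g, hV'⟩ := exists_module hF hc' π'
      (e'.surjective.comp (QuotientGroup.mk'_surjective _)) (N.map (mk' A)) hN' hcomm'
      fun g hg a ha => hcomm' g ((QuotientGroup.eq_one_iff g).1 (e'.injective (hg.trans (map_one e').symm))) a ha
    have hι0 : ι 0 = 1 := by
      have h := hιm 0 0
      rw [add_zero] at h
      exact left_eq_mul.1 h
    have hι'0 : ι' 0 = 1 := by
      have h := hι'm 0 0
      rw [add_zero] at h
      exact left_eq_mul.1 h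
    have g₁ : Good (m := m) hF V := good_of_fpf hm hF _ V rfl
      (fun v => hιi (by rw [hιm, hι0]; exact (hιA v).2.2)) hV
    have g₂ : Good (m := m) hF V' := good_of_fpf hm hF _ V' rfl
      (fun v => hι'i (by rw [hι'm, hι'0]; exact hsq' _ (hι'A v))) hV'
    -- the commutator pairing
    have hwd : ∀ a ∈ N, ∀ b ∈ N, ∀ z ∈ A,
        (a * z) * b * (a * z)⁻¹ * b⁻¹ = a * b * a⁻¹ * b⁻¹ ∧
          a * (b * z) * a⁻¹ * (b * z)⁻¹ = a * b * a⁻¹ * b⁻¹ := by
      intro a ha b hb z hz
      constructor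
      · rw [show a * z * b * (a * z)⁻¹ * b⁻¹ = a * (z * b) * z⁻¹ * a⁻¹ * b⁻¹ by group, ← hz.2.1 b hb]
        group
      · rw [show a * (b * z) * a⁻¹ * (b * z)⁻¹ = a * b * (z * a⁻¹) * z⁻¹ * b⁻¹ by group,
          ← hz.2.1 a⁻¹ (inv_mem ha)]
        group
    have hlift : ∀ v : V', ∃ a ∈ N, mk' A a = ι' v := fun v => Subgroup.mem_map.1 (hι'A v)
    choose L hLN hL using hlift
    choose cm hcm using fun v w : V' => hιs _ (hcomA _ (hLN v) _ (hLN w))
    have hval : ∀ {v w : V'} {a b : G}, mk' A a = ι' v → mk' A b = ι' w →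
        ι (cm v w) = a * b * a⁻¹ * b⁻¹ := by
      intro v w a b ha hb
      have hsame : ∀ {v : V'} {a : G}, mk' A a = ι' v → ∃ z ∈ A, a = L v * z := fun {v a} h =>
        ⟨(L v)⁻¹ * a, QuotientGroup.eq.1 ((hL v).trans h.symm), by group⟩
      obtain ⟨z, hz, rfl⟩ := hsame ha
      obtain ⟨z', hz', rfl⟩ := hsame hb
      rw [hcm, (hwd _ (hLN v) _ (N.mul_mem (hLN w) (hAN hz')) z hz).1, (hwd _ (hLN v) _ (hLN w) z' hz').2]
    have hmul : ∀ v w, mk' A (L v * L w) = ι' (v + w) := fun v w => by rw [map_mul, hL, hL, hι'm]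
    have haddl : ∀ v w x, cm (v + w) x = cm v x + cm w x := by
      intro v w x
      refine hιi ?_
      rw [hιm, hval (hmul v w) (hL x), hcm, hcm]
      have hz := (hcomA _ (hLN w) _ (hLN x)).2.1 (L v) (hLN v)
      have hz' := (hcomA _ (hLN w) _ (hLN x)).2.1 _ (hAN (hcomA _ (hLN v) _ (hLN x)))
      obtain ⟨z, hzd⟩ : ∃ z, z = L w * L x * (L w)⁻¹ * (L x)⁻¹ := ⟨_, rfl⟩
      rw [← hzd] at hz hz' ⊢
      rw [hz', show L v * L w * L x * (L v * L w)⁻¹ * (L x)⁻¹ = L v * z * L x * (L v)⁻¹ * (L x)⁻¹ by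
        rw [hzd]; group, hz]
      group
    have hsymm : ∀ v w, cm v w = cm w v := by
      intro v w
      refine hιi ?_
      rw [hcm, hcm, show L w * L v * (L w)⁻¹ * (L v)⁻¹ = (L v * L w * (L v)⁻¹ * (L w)⁻¹)⁻¹ by group]
      exact eq_inv_of_mul_eq_one_left (hcomA _ (hLN v) _ (hLN w)).2.2
    let B : V' →+ V' →+ V := AddMonoidHom.mk' (fun v => AddMonoidHom.mk' (cm v) fun a b => by
        rw [hsymm, haddl, hsymm a, hsymm b]) fun a b => AddMonoidHom.ext fun c => haddl a b c
    have hB : B = 0 := pairing_zero hm hF g₂ g₂ g₁ B fun s v w => by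
      obtain ⟨g, rfl⟩ := hπs s
      have hg : ∀ v, mk' A (g * L v * g⁻¹) = ι' (π g • v) := fun v => by
        rw [show π g = π' (mk' A g) from rfl, hι'g, map_mul, map_mul, map_inv, hL]
      refine hιi ?_
      show ι (cm (π g • v) (π g • w)) = ι (π g • cm v w)
      rw [hval (hg v) (hg w), hιg, hcm]
      group
    have hab : ∀ a ∈ N, ∀ b ∈ N, a * b = b * a := fun a ha b hb => by
      obtain ⟨v, hv⟩ := hι's _ (hmk ha)
      obtain ⟨w, hw⟩ := hι's _ (hmk hb)
      have h := hval hv.symm hw.symm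
      rw [show cm v w = B v w from rfl, hB, AddMonoidHom.zero_apply, AddMonoidHom.zero_apply, hι0] at h
      exact mul_inv_eq_iff_eq_mul.1 (mul_inv_eq_one.1 h.symm)
    -- exponent four
    obtain ⟨U, _, _, _, κ, hκi, hκN, hκs, hκm, -, hU⟩ := exists_module hF hc π hπs N hN hab
      fun g hg a ha => hab g (hπk g hg) a ha
    have hκ0 : κ 0 = 1 := by
      have h := hκm 0 0
      rw [add_zero] at h
      exact left_eq_mul.1 h
    intro a ha
    obtain ⟨x, rfl⟩ := hκs a ha
    have h4 : ∀ y : U, y + y + (y + y) = 0 := fun y => hκi (by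
      rw [hκm, hκm, hκ0]; exact (hsqA _ (hκN y)).2.2)
    rw [← hκm, two_of_four hm hF hU h4 x, hκ0]

end CfsgLib.CIT.Suz
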