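import Cfsg.Agent.Lib.CIT.Suz.Group
import Mathlib.GroupTheory.PGroup

/-!
# Modules of the Suzuki groups on which an element of order five has no fixed point: coordinates

The relation coming from the element of order five makes the fixed points of the translations a
vector space over the field, and the module is then described by four coordinates there.
-/

set_option autoImplicit false
set_option linter.unusedSectionVars false
set_option linter.style.haveILetI false

namespace CfsgLib.CIT.Suz

open CfsgLib.Lie.Suz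

universe u

variable {F : Type} [Field F] [Fintype F] {m : ℕ} (hm : 1 ≤ m)
  (hF : Fintype.card F = 2 ^ (2 * m + 1))
  {V : Type u} [AddCommGroup V] [DistribMulAction (Cfsg.Sz F m) V]

local notation "u₁" => TS hF (1 : F) 0
local notation "z₁" => TS hF (0 : F) 1
local notation "w₀" => WS (m := m) hF

/-- The element of order five has no nonzero fixed point. -/
def FPF (V : Type u) [AddCommGroup V] [DistribMulAction (Cfsg.Sz F m) V] : Prop :=
  ∀ v : V, gFive (m := m) hF • v = v → v = 0

/-- A subgroup stable under the group. -/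
def Invariant (m : ℕ) (S : AddSubgroup V) [DistribMulAction (Cfsg.Sz F m) V] : Prop :=
  ∀ (g : Cfsg.Sz F m), ∀ v ∈ S, g • v ∈ S

/-- A subgroup stable under the translations. -/
def UInvariant (S : AddSubgroup V) : Prop := ∀ (a b : F), ∀ v ∈ S, TS hF a b • v ∈ S

/-- The fixed points of the translations. -/
def fixU : AddSubgroup V where
  carrier := {v | ∀ a b : F, TS hF a b • v = v}
  zero_mem' := fun _ _ => smul_zero _
  add_mem' := fun {x y} hx hy a b => by rw [smul_add, hx, hy]
  neg_mem' := fun {x} hx a b => by rw [smul_neg, hx]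

theorem mem_fixU {v : V} : v ∈ fixU hF ↔ ∀ a b : F, TS hF a b • v = v := Iff.rfl

/-- The norm of the element of order four. -/
noncomputable def nOne : V →+ V where
  toFun v := v + u₁ • v + z₁ • v + (u₁ * z₁) • v
  map_zero' := by simp
  map_add' x y := by simp only [smul_add]; abel

theorem nOne_apply (v : V) : nOne hF v = v + u₁ • v + z₁ • v + (u₁ * z₁) • v := rfl

theorem u_mul_u : u₁ * u₁ = (z₁ : Cfsg.Sz F m) := by
  have hS := isSuzField hF
  rw [TS_mul, add_self hS, th_one hS, mul_one, add_zero, zero_add]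

theorem u_mul_uz : u₁ * (u₁ * z₁) = (1 : Cfsg.Sz F m) := by
  have hS := isSuzField hF
  rw [← mul_assoc, u_mul_u, TS_mul, add_zero, th_zero hS, zero_mul, add_zero, add_self hS, TS_zero]

theorem u_smul_nOne (v : V) : u₁ • nOne hF v = nOne hF v := by
  simp only [nOne_apply, smul_add, ← mul_smul, u_mul_u, u_mul_uz, one_smul]
  abel

theorem z_smul_of_u {v : V} (h : u₁ • v = v) : z₁ • v = v := by
  rw [← u_mul_u, mul_smul, h, h]

theorem u_pow (k : ℕ) : u₁ * gFive hF ^ k = (gFive hF ^ (2 * k) * u₁ : Cfsg.Sz F m) := by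
  rw [pow_mul]
  exact SemiconjBy.pow_right (gFive_rel (m := m) hF).2.2 k

/-- The orbit relation of the element of order five. -/
theorem orbit_rel (hV : FPF (m := m) hF V) {S : AddSubgroup V} (hS : Invariant (F := F) m S) {v : V}
    (h : u₁ • v - v ∈ S) : v + nOne hF (w₀ • v) ∈ S := by
  set g := gFive (m := m) hF
  have tr : ∀ {x y z : V}, x - y ∈ S → y - z ∈ S → x - z ∈ S := fun hxy hyz => by
    have := S.add_mem hxy hyz
    rwa [sub_add_sub_cancel] at this
  have sm : ∀ (k : Cfsg.Sz F m) {x y : V}, x - y ∈ S → k • x - k • y ∈ S := fun k x y hxy => by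
    rw [← smul_sub]; exact hS k _ hxy
  have hz : z₁ • v - v ∈ S := by
    rw [← u_mul_u, mul_smul]
    exact tr (sm _ h) h
  have h1 : w₀ • v - (g ^ 1) • v ∈ S := by
    rw [pow_one, show g = w₀ * z₁ from rfl, mul_smul, ← smul_sub]
    exact hS _ _ (by rw [← neg_sub]; exact S.neg_mem hz)
  have hu : ∀ {x : V} (k : ℕ), x - (g ^ k) • v ∈ S → u₁ • x - (g ^ (2 * k)) • v ∈ S := by
    intro x k hx
    refine tr (sm _ hx) ?_
    rw [← mul_smul, u_pow, mul_smul]
    exact sm _ h
  have h2 := hu 1 h1
  have h4 := hu 2 h2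
  rw [← mul_smul, u_mul_u] at h4
  have h8 := hu 4 h4
  rw [← mul_smul, show g ^ (2 * 4) = g ^ 3 by
    rw [show 2 * 4 = 5 + 3 by rfl, pow_add, (gFive_rel hF).1, one_mul]] at h8
  have hsum : v + g ^ 1 • v + g ^ 2 • v + g ^ 4 • v + g ^ 3 • v = 0 := by
    refine hV _ ?_
    show g • _ = _
    simp only [smul_add, ← mul_smul, ← pow_succ']
    rw [show g ^ (4 + 1) = 1 from (gFive_rel hF).1, one_smul,
      show g • v = g ^ 1 • v by rw [pow_one]]
    abel
  have h' := S.add_mem (S.add_mem (S.add_mem h1 h2) h4) h8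
  convert h' using 1
  rw [nOne_apply, ← sub_zero (v + _), ← hsum]
  abel

theorem nOne_W (hV : FPF (m := m) hF V) {v : V} (h : u₁ • v = v) :
    nOne hF (w₀ • v) = -v := by
  have h' := orbit_rel hF hV (S := ⊥) (fun g x hx => by
    rw [AddSubgroup.mem_bot] at hx ⊢; rw [hx, smul_zero]) (v := v) (by rw [h, sub_self]; exact zero_mem _)
  exact eq_neg_of_add_eq_zero_right (AddSubgroup.mem_bot.1 h')

/-! ### the torus on the fixed points -/

open Classical in
/-- The scalar action read off the torus. -/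
noncomputable def scal (x : F) (v : V) : V :=
  if hx : x = 0 then 0 else HS hF (Units.mk0 (kOf hF x) (kOf_ne hF hx)) • v

theorem scal_zero (v : V) : scal (m := m) hF 0 v = 0 := dif_pos rfl

theorem scal_apply_zero (x : F) : scal (m := m) hF x (0 : V) = 0 := by
  rw [scal]; split_ifs
  · rfl
  · exact smul_zero _

theorem scal_map_add (x : F) (v w : V) : scal (m := m) hF x (v + w) = scal hF x v + scal hF x w := by
  rw [scal, scal, scal]; split_ifs
  · rw [add_zero]
  · exact smul_add _ _ _

theorem HS_smul (k : Fˣ) (v : V) : HS hF k • v = scal (m := m) hF (al m (k : F)) v := by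
  rw [scal, dif_neg (show al m (k : F) ≠ 0 from mul_ne_zero k.ne_zero (pow_ne_zero _ k.ne_zero))]
  congr 2
  exact Units.ext (kOf_al hF _).symm

theorem scal_one (v : V) : scal (m := m) hF (1 : F) v = v := by
  have h := HS_smul hF (m := m) (1 : Fˣ) v
  rw [HS_one, one_smul, Units.val_one] at h
  rw [show al m (1 : F) = 1 by rw [al, pw, one_pow, one_mul]] at h
  exact h.symm

theorem scal_mul (x y : F) (v : V) : scal (m := m) hF (x * y) v = scal hF x (scal hF y v) := by
  rcases eq_or_ne x 0 with rfl | hx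
  · rw [zero_mul, scal_zero, scal_zero]
  rcases eq_or_ne y 0 with rfl | hy
  · rw [mul_zero, scal_zero, scal_apply_zero]
  set k := Units.mk0 (kOf hF x) (kOf_ne (m := m) hF hx)
  set l := Units.mk0 (kOf hF y) (kOf_ne (m := m) hF hy)
  have hk : al m (k : F) = x := al_kOf hF x
  have hl : al m (l : F) = y := al_kOf hF y
  have h := HS_smul hF (m := m) (k * l) v
  rw [HS_mul, mul_smul, HS_smul, HS_smul, Units.val_mul,
    show al m ((k : F) * l) = al m (k : F) * al m (l : F) by rw [al, al, al, pw_mul]; ring, hk, hl] at h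
  exact h.symm

theorem scal_mem {c : V} (hc : c ∈ fixU hF) (x : F) : scal (m := m) hF x c ∈ fixU hF := by
  rw [scal]; split_ifs with hx
  · exact zero_mem _
  · intro a b
    set k := Units.mk0 (kOf hF x) (kOf_ne (m := m) hF hx)
    have hS := isSuzField hF
    have hk : th m (k : F) ≠ 0 := fun h => k.ne_zero (th_eq_zero hS h)
    have h := HS_TS hF (m := m) k (a / k) (b / (th m (k : F) * k))
    rw [mul_div_cancel₀ _ k.ne_zero, mul_div_cancel₀ _ (mul_ne_zero hk k.ne_zero)] at h
    rw [← mul_smul, ← h, mul_smul, hc]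

theorem W_scal (x : F) (v : V) : w₀ • scal hF x v = scal hF x⁻¹ (w₀ • v) := by
  rcases eq_or_ne x 0 with rfl | hx
  · rw [inv_zero, scal_zero, scal_zero, smul_zero]
  set k := Units.mk0 (kOf hF x) (kOf_ne (m := m) hF hx)
  rw [show scal hF x v = HS hF k • v from dif_neg hx, ← mul_smul, WS_HS, mul_smul, HS_smul,
    Units.val_inv_eq_inv_val]
  congr 1
  rw [al, pw, inv_pow, ← mul_inv]
  exact congrArg _ (al_kOf hF x)

/-! ### characteristic two -/

theorem neg_self {W : Type*} [AddCommGroup W] (h2 : ∀ v : W, v + v = 0) (v : W) : -v = v :=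
  neg_eq_of_add_eq_zero_left (h2 v)

theorem sub_eq_plus {W : Type*} [AddCommGroup W] (h2 : ∀ v : W, v + v = 0) (v w : W) : v - w = v + w := by
  rw [sub_eq_add_neg, neg_self h2]

theorem nOne_fix (h2 : ∀ v : V, v + v = 0) {c : V} (hc : c ∈ fixU hF) : nOne hF c = 0 := by
  rw [nOne_apply, mul_smul, hc 0 1, hc 1 0, h2, zero_add, h2]

/-- A proper subgroup stable under translations has a coset fixed by them. -/
theorem exists_fix_mod [Finite V] (h2 : ∀ v : V, v + v = 0) {P : AddSubgroup V}
    (hP : UInvariant (m := m) hF P) (hne : P ≠ ⊤) :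
    ∃ v, v ∉ P ∧ ∀ a b : F, TS hF a b • v - v ∈ P := by
  classical
  haveI : Fact (Nat.Prime 2) := ⟨Nat.prime_two⟩
  have hm' : ∀ (g : (U hF : Subgroup (Cfsg.Sz F m))) {v : V}, v ∈ P → (g : Cfsg.Sz F m) • v ∈ P := by
    rintro ⟨g, a, b, hg⟩ v hv
    change g • v ∈ P
    rw [show g = TS hF a b from Subtype.ext hg]
    exact hP a b v hv
  letI : MulAction (U hF : Subgroup (Cfsg.Sz F m)) (V ⧸ P) :=
    { smul := fun g => QuotientAddGroup.map P P (DistribMulAction.toAddMonoidHom V (g : Cfsg.Sz F m))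
        (fun _ hv => hm' g hv)
      one_smul := fun q => by
        induction q using QuotientAddGroup.induction_on
        exact congrArg QuotientAddGroup.mk (one_smul _ _)
      mul_smul := fun g h q => by
        induction q using QuotientAddGroup.induction_on
        exact congrArg QuotientAddGroup.mk (mul_smul _ _ _) }
  haveI : Nontrivial (V ⧸ P) := by
    obtain ⟨x, hx⟩ : ∃ x, x ∉ P := by
      by_contra h
      push Not at h
      exact hne (eq_top_iff.2 fun y _ => h y)
    exact ⟨⟨x, 0, fun e => hx ((QuotientAddGroup.eq_zero_iff x).1 e)⟩⟩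
  obtain ⟨y, hy⟩ := exists_ne (0 : V ⧸ P)
  have ho : addOrderOf y = 2 := by
    induction y using QuotientAddGroup.induction_on with
    | H x => exact addOrderOf_eq_prime (by rw [two_nsmul, ← QuotientAddGroup.mk_add, h2]; rfl) hy
  obtain ⟨q, hq, hq0⟩ := (U_isPGroup (m := m) hF).exists_fixed_point_of_prime_dvd_card_of_fixed_point
    (V ⧸ P) (ho ▸ addOrderOf_dvd_natCard y) (a := 0) (fun g => (QuotientAddGroup.map P P _ _).map_zero)
  induction q using QuotientAddGroup.induction_on with
  | H x =>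
    refine ⟨x, fun h => hq0 ((QuotientAddGroup.eq_zero_iff x).2 h).symm, fun a b => ?_⟩
    have h : ((TS hF a b • x : V) : V ⧸ P) = x := hq ⟨TS hF a b, TS_mem_U hF a b⟩
    exact (QuotientAddGroup.eq_iff_sub_mem).1 h

theorem fixU_ne_bot [Finite V] [Nontrivial V] (h2 : ∀ v : V, v + v = 0) :
    (fixU (m := m) hF : AddSubgroup V) ≠ ⊥ := by
  obtain ⟨v, hv, hfix⟩ := exists_fix_mod (m := m) hF h2 (P := ⊥) (fun a b x hx => by
    rw [AddSubgroup.mem_bot] at hx ⊢; rw [hx, smul_zero]) bot_ne_top
  intro e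
  refine hv (e ▸ (show v ∈ fixU hF from fun a b => ?_))
  exact sub_eq_zero.1 (AddSubgroup.mem_bot.1 (hfix a b))

/-- The subgroup generated by the fixed points and their images. -/
def spanU : AddSubgroup V :=
  AddSubgroup.closure ((fixU (m := m) hF : AddSubgroup V) ∪
    {v | ∃ a b : F, ∃ c ∈ fixU (m := m) hF, v = TS hF a b • w₀ • c})

theorem fixU_le_spanU : (fixU (m := m) hF : AddSubgroup V) ≤ spanU hF :=
  fun _ hv => AddSubgroup.subset_closure (Or.inl hv)

include hm in
theorem spanU_invariant : Invariant (F := F) m (spanU (m := m) hF : AddSubgroup V) := by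
  intro g v hv
  have hgen : ∀ (g : Cfsg.Sz F m), ∀ c ∈ fixU (m := m) hF (V := V), g • c ∈ spanU (m := m) hF := by
    intro g c hc
    rcases decomp hm hF g with ⟨a, b, k, rfl⟩ | ⟨x, y, a, b, k, rfl⟩
    · rw [mul_smul, HS_smul, (scal_mem hF hc _) a b]
      exact fixU_le_spanU hF (scal_mem hF hc _)
    · rw [mul_smul, mul_smul, mul_smul, HS_smul, (scal_mem hF hc _) a b]
      exact AddSubgroup.subset_closure (Or.inr ⟨x, y, _, scal_mem hF hc _, rfl⟩)
  induction hv using AddSubgroup.closure_induction with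
  | mem w hw =>
    rcases hw with hw | ⟨a, b, c, hc, rfl⟩
    · exact hgen g w hw
    · rw [← mul_smul, ← mul_smul]; exact hgen _ c hc
  | zero => rw [smul_zero]; exact zero_mem _
  | add x y _ _ hx hy => rw [smul_add]; exact add_mem hx hy
  | neg x _ hx => rw [smul_neg]; exact neg_mem hx

include hm in
theorem spanU_eq_top [Finite V] (h2 : ∀ v : V, v + v = 0) (hV : FPF (m := m) hF V)
    (hfix : ∀ v : V, u₁ • v = v → v ∈ fixU hF) : (spanU (m := m) hF : AddSubgroup V) = ⊤ := by
  by_contra hne
  have hinv := spanU_invariant hm hF (V := V)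
  obtain ⟨v, hv, hd⟩ := exists_fix_mod (m := m) hF h2 (P := spanU hF) (fun a b => hinv _) hne
  refine hv ?_
  have h := orbit_rel hF hV hinv (hd 1 0)
  have h' := fixU_le_spanU hF (hfix _ (u_smul_nOne hF (w₀ • v)))
  simpa using AddSubgroup.sub_mem _ h h'

/-! ### coordinates -/

/-- A projection on the fixed points invariant under translations. -/
structure Top (π : V →+ V) : Prop where
  mem : ∀ v, π v ∈ fixU (m := m) hF
  inv : ∀ (a b : F) (v : V), π (TS hF a b • v) = π v
  top : ∀ c ∈ fixU (m := m) hF (V := V), π (w₀ • c) = c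
  low : ∀ c ∈ fixU (m := m) hF (V := V), π c = 0
  two : ∀ v : V, v + v = 0
  fpf : FPF (m := m) hF V
  span : (spanU (m := m) hF : AddSubgroup V) = ⊤

variable {π : V →+ V} (hπ : Top (m := m) hF π)

include hm hπ

theorem top_key {c : V} (hc : c ∈ fixU hF) (x y : F) :
    π (w₀ • TS hF x y • w₀ • c) = scal hF (fO m x y) c := by
  have hS := isSuzField hF
  by_cases h : x = 0 ∧ y = 0
  · rw [h.1, h.2, TS_zero, one_smul, ← mul_smul, WS_mul_self, one_smul, hπ.low c hc]
    rw [show fO m (0 : F) 0 = 0 by simp [fO, th_zero hS], scal_zero]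
  · obtain ⟨a'', b'', k, e, hk, -⟩ := bruhat hm hF h
    rw [← mul_smul, ← mul_smul, e]
    simp only [mul_smul]
    rw [hπ.inv, HS_smul, hk, (scal_mem hF hc _) a'' b'', hπ.top _ (scal_mem hF hc _)]

theorem scal_add {c : V} (hc : c ∈ fixU hF) (x y : F) :
    scal hF (x + y) c = scal hF x c + scal hF y c := by
  have hS := isSuzField hF
  have h2 := hπ.two
  have hone : ∀ x : F, ∀ c ∈ fixU (m := m) hF (V := V), scal hF (x + 1) c = scal hF x c + c := by
    intro x c hc
    set y := pw m x
    have hy : th m y = x := th_pw hF x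
    have h := congrArg (fun v => π (w₀ • TS hF (0 : F) y • v)) (nOne_W hF hπ.fpf (hc 1 0))
    simp only [neg_self h2, nOne_apply, smul_add, ← mul_smul (TS hF (0 : F) y), TS_mul, map_add] at h
    simp only [← mul_smul, ← mul_assoc, TS_mul] at h
    simp only [mul_smul] at h
    rw [top_key hm hF hπ hc, top_key hm hF hπ hc, top_key hm hF hπ hc, top_key hm hF hπ hc, hc,
      hπ.top c hc] at h
    simp only [th_zero hS, th_one hS, zero_add, add_zero, mul_zero, zero_mul, mul_one] at h
    rw [show fO m (0 : F) y = x by simp [fO, th_zero hS, hy],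
      show fO m (0 : F) (y + 1) = x + 1 by simp [fO, th_zero hS, th_add hS, th_one hS, hy],
      show fO m (1 : F) (y + 1) = fO m (1 : F) y by
        simp only [fO, th_add hS, th_one hS]
        linear_combination two_eq_zero hS] at h
    have e : scal hF x c + scal hF (fO m (1 : F) y) c + scal hF (x + 1) c + scal hF (fO m (1 : F) y) c
        = scal hF x c + scal hF (x + 1) c + (scal hF (fO m (1 : F) y) c + scal hF (fO m (1 : F) y) c) := by
      abel
    rw [e, h2, add_zero] at h
    rw [show scal hF x c + c = scal hF x c + (scal hF x c + scal hF (x + 1) c) by rw [h],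
      ← add_assoc, h2, zero_add]
  rcases eq_or_ne y 0 with rfl | hy
  · rw [scal_zero, add_zero, add_zero]
  · rw [show x + y = y * (x / y + 1) by field_simp, scal_mul, hone _ c hc, scal_map_add, ← scal_mul,
      mul_div_cancel₀ _ hy]

/-- The coordinates of an element. -/
noncomputable def crd (π : V →+ V) : Fin 4 → V →+ V :=
  ![π.comp (DistribMulAction.toAddMonoidHom V (w₀ : Cfsg.Sz F m)),
    π.comp ((DistribMulAction.toAddMonoidHom V (w₀ * TS hF 1 0 : Cfsg.Sz F m))) +
      π.comp ((DistribMulAction.toAddMonoidHom V (w₀ * TS hF 0 1 : Cfsg.Sz F m))),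
    π.comp ((DistribMulAction.toAddMonoidHom V (w₀ * TS hF 0 1 : Cfsg.Sz F m))) + π +
      π.comp (DistribMulAction.toAddMonoidHom V (w₀ : Cfsg.Sz F m)),
    π]

omit hm hπ in
theorem crd_three (v : V) : crd (m := m) hF π 3 v = π v := rfl

omit hm hπ in
theorem crd_zero (v : V) : crd (m := m) hF π 0 v = π (w₀ • v) := rfl

omit hm in
theorem crd_mem (i : Fin 4) (v : V) : crd (m := m) hF π i v ∈ fixU (m := m) hF := by
  fin_cases i
  · exact hπ.mem _
  · exact add_mem (hπ.mem _) (hπ.mem _)
  · exact add_mem (add_mem (hπ.mem _) (hπ.mem _)) (hπ.mem _)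
  · exact hπ.mem _

theorem fO_mul (x y a b : F) : fO m (x + a) (y + b + th m x * a) =
    fO m x y + a * (y + th m x * x) + b * x + fO m a b := by
  have hS := isSuzField hF
  simp only [fO, th_add hS, th_mul hS, th_th hS, sq_add hS]
  linear_combination (th m x * a ^ 2 + th m a * x ^ 2) * two_eq_zero hS

/-- The coordinates are determined by the form. -/
theorem crd_of_form {v : V} {d : Fin 4 → V} (hd3 : π v = d 3)
    (hd : ∀ x y : F, π (w₀ • TS hF x y • v) = scal hF (fO m x y) (d 3) +
      scal hF (y + th m x * x) (d 2) + scal hF x (d 1) + d 0) (i : Fin 4) :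
    crd hF π i v = d i := by
  have hS := isSuzField hF
  have h2 := hπ.two
  have h0 := hd 0 0
  have h1 := hd 1 0
  have h1' := hd 0 1
  simp only [fO, th_zero hS, th_one hS, mul_zero, zero_mul, mul_one, zero_add, add_zero, one_pow,
    scal_zero, scal_one, TS_zero, one_smul] at h0 h1 h1'
  fin_cases i
  · exact h0
  · show π ((w₀ * u₁) • v) + π ((w₀ * z₁) • v) = d 1
    rw [mul_smul, mul_smul, h1', h1, show d 3 + d 2 + d 1 + d 0 + (d 3 + d 2 + d 0) =
      d 1 + (d 3 + d 3) + (d 2 + d 2) + (d 0 + d 0) by abel, h2, h2, h2, add_zero, add_zero, add_zero]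
  · show π ((w₀ * z₁) • v) + π v + π (w₀ • v) = d 2
    rw [mul_smul, h1', hd3, h0, show d 3 + d 2 + d 0 + d 3 + d 0 = d 2 + (d 3 + d 3) + (d 0 + d 0) by
      abel, h2, h2, add_zero, add_zero]
  · exact hd3

/-- The form of the orbit of an element. -/
theorem form (v : V) (x y : F) :
    π (w₀ • TS hF x y • v) = scal hF (fO m x y) (crd hF π 3 v) +
      scal hF (y + th m x * x) (crd hF π 2 v) + scal hF x (crd hF π 1 v) + crd hF π 0 v := by
  have hS := isSuzField hF
  have h2 := hπ.two
  suffices h : ∃ d : Fin 4 → V, (∀ i, d i ∈ fixU (m := m) hF) ∧ π v = d 3 ∧ ∀ x y : F,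
      π (w₀ • TS hF x y • v) = scal hF (fO m x y) (d 3) +
        scal hF (y + th m x * x) (d 2) + scal hF x (d 1) + d 0 by
    obtain ⟨d, -, hd3, hd⟩ := h
    rw [crd_of_form hm hF hπ hd3 hd, crd_of_form hm hF hπ hd3 hd, crd_of_form hm hF hπ hd3 hd,
      crd_of_form hm hF hπ hd3 hd]
    exact hd x y
  have hv : v ∈ (spanU (m := m) hF : AddSubgroup V) := hπ.span ▸ AddSubgroup.mem_top v
  induction hv using AddSubgroup.closure_induction with
  | mem w hw =>
    rcases hw with hw | ⟨a, b, c, hc, rfl⟩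
    · refine ⟨![w, 0, 0, 0], fun i => ?_, ?_, fun x y => ?_⟩
      · fin_cases i <;> first | exact hw | exact zero_mem _
      · rw [hπ.low w hw]; rfl
      · rw [hw, hπ.top w hw]
        simp [scal_apply_zero]
    · refine ⟨![scal hF (fO m a b) c, scal hF b c, scal hF a c, c], fun i => ?_, ?_, fun x y => ?_⟩
      · fin_cases i <;> first | exact hc | exact scal_mem hF hc _
      · rw [hπ.inv, hπ.top c hc]; rfl
      · rw [← mul_smul (TS hF x y), TS_mul, top_key hm hF hπ hc, fO_mul hm hF hπ, scal_add hm hF hπ hc,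
          scal_add hm hF hπ hc, scal_add hm hF hπ hc, mul_comm a, mul_comm b, scal_mul, scal_mul]
        rfl
  | zero => exact ⟨0, fun _ => zero_mem _, by simp, fun x y => by simp [scal_apply_zero]⟩
  | add p q _ _ hp hq =>
    obtain ⟨d, hdm, hd3, hd⟩ := hp
    obtain ⟨e, hem, he3, he⟩ := hq
    refine ⟨d + e, fun i => add_mem (hdm i) (hem i), by rw [map_add, hd3, he3]; rfl, fun x y => ?_⟩
    rw [smul_add, smul_add, map_add, hd, he]
    simp only [Pi.add_apply, scal_map_add]
    abel
  | neg p _ hp =>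
    obtain ⟨d, hdm, hd3, hd⟩ := hp
    exact ⟨d, hdm, by rw [neg_self h2, hd3], fun x y => by rw [neg_self h2]; exact hd x y⟩

theorem crd_ext [Finite V] {v : V} (h : ∀ i, crd (m := m) hF π i v = 0) : v = 0 := by
  by_contra hv
  let S : AddSubgroup V :=
    { carrier := {v | π v = 0 ∧ ∀ x y : F, π (w₀ • TS hF x y • v) = 0}
      zero_mem' := ⟨map_zero _, fun x y => by simp⟩
      add_mem' := fun hx hy => ⟨by rw [map_add, hx.1, hy.1, add_zero],
        fun x y => by rw [smul_add, smul_add, map_add, hx.2, hy.2, add_zero]⟩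
      neg_mem' := fun hx => ⟨by rw [map_neg, hx.1, neg_zero],
        fun x y => by rw [smul_neg, smul_neg, map_neg, hx.2, neg_zero]⟩ }
  have hvS : v ∈ S := ⟨h 3, fun x y => by
    rw [form hm hF hπ]; simp [h, scal_apply_zero]⟩
  have hSi : ∀ a b : F, ∀ w ∈ S, TS hF a b • w ∈ S := fun a b w hw => ⟨by rw [hπ.inv]; exact hw.1,
    fun x y => by rw [← mul_smul (TS hF x y), TS_mul]; exact hw.2 _ _⟩
  letI : SMul (U hF : Subgroup (Cfsg.Sz F m)) S := ⟨fun g w => ⟨(g : Cfsg.Sz F m) • (w : V), by
    obtain ⟨g, a, b, hg⟩ := g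
    change g • (w : V) ∈ S
    rw [show g = TS hF a b from Subtype.ext hg]
    exact hSi a b _ w.2⟩⟩
  letI : MulAction (U hF : Subgroup (Cfsg.Sz F m)) S :=
    { one_smul := fun w => Subtype.ext (one_smul _ _)
      mul_smul := fun g k w => Subtype.ext (mul_smul _ _ _) }
  haveI : Fact (Nat.Prime 2) := ⟨Nat.prime_two⟩
  have ho : addOrderOf (⟨v, hvS⟩ : S) = 2 :=
    addOrderOf_eq_prime (Subtype.ext (by rw [two_nsmul]; exact hπ.two v)) fun e => hv (congrArg Subtype.val e)
  obtain ⟨c, hc, hc0⟩ := (U_isPGroup (m := m) hF).exists_fixed_point_of_prime_dvd_card_of_fixed_point S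
    (ho ▸ addOrderOf_dvd_natCard (⟨v, hvS⟩ : S)) (a := 0) (fun g => Subtype.ext (smul_zero _))
  have hcf : (c : V) ∈ fixU (m := m) hF := fun a b =>
    congrArg Subtype.val (hc ⟨TS hF a b, TS_mem_U hF a b⟩)
  have := c.2.2 0 0
  rw [TS_zero, one_smul, hπ.top _ hcf] at this
  exact hc0 (Subtype.ext this.symm)

end CfsgLib.CIT.Suz
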