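import Cfsg.Agent.Lib.CIT.Suz.Group
import Mathlib.FieldTheory.Finite.Basic
import Mathlib.Algebra.Module.Basic

/-!
# Three vanishing lemmas for cocycles with values in semilinear maps

Over the field of a Suzuki group every additive map is the sum of its semilinear components, and for
these the cocycle identities reduce to identities of scalars.
-/

set_option autoImplicit false
set_option linter.unusedSectionVars false

namespace CfsgLib.CIT.Suz

open CfsgLib.Lie.Suz

universe u v

variable {F : Type} [Field F] [Fintype F] {m : ℕ} (hF : Fintype.card F = 2 ^ (2 * m + 1))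
  {M₂ : Type u} [AddCommGroup M₂] [Module F M₂] {M₁ : Type v} [AddCommGroup M₁] [Module F M₁]

/-- a power of the Frobenius -/
def frob (i : ℕ) (x : F) : F := x ^ 2 ^ i

/-- a semilinear component -/
def comp (i : ℕ) (X : M₂ → M₁) (c : M₂) : M₁ := ∑ l : F, frob i l • X (l⁻¹ • c)

local notation "cmp" => comp (F := F)

theorem frob_mul (i : ℕ) (x y : F) : frob i (x * y) = frob i x * frob i y := mul_pow x y _

theorem frob_inv (i : ℕ) (x : F) : frob i x⁻¹ = (frob i x)⁻¹ := inv_pow x _

include hF

theorem frob_add (i : ℕ) (x y : F) : frob i (x + y) = frob i x + frob i y := by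
  haveI := (isSuzField hF).1
  exact add_pow_char_pow x y 2 i

theorem sum_frob_div {i : ℕ} (hi : i < 2 * m + 1) :
    (∑ l : F, frob i l * l⁻¹) = if i = 0 then 1 else 0 := by
  classical
  have hS := isSuzField hF
  split_ifs with h0
  · subst h0
    have h : ∀ l : F, frob 0 l * l⁻¹ = if l = 0 then 0 else 1 := fun l => by
      rw [frob, pow_zero, pow_one]
      split_ifs with hl
      · rw [hl, zero_mul]
      · exact mul_inv_cancel₀ hl
    rw [Finset.sum_congr rfl fun l _ => h l, Finset.sum_ite, Finset.sum_const_zero, zero_add, Finset.sum_const,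
      nsmul_one, Finset.filter_ne' Finset.univ (0 : F), Finset.card_erase_of_mem (Finset.mem_univ _),
      Finset.card_univ, hF, Nat.cast_sub (Nat.one_le_two_pow), Nat.cast_pow, Nat.cast_ofNat, Nat.cast_one,
      two_eq_zero hS, zero_pow (by omega), zero_sub, neg_eq hS]
  · have h2 : 2 ≤ 2 ^ i := by
      calc 2 = 2 ^ 1 := rfl
        _ ≤ 2 ^ i := Nat.pow_le_pow_right two_pos (Nat.pos_of_ne_zero h0)
    have hlt : 2 ^ i < 2 ^ (2 * m + 1) := Nat.pow_lt_pow_right one_lt_two hi
    have h : ∀ l : F, frob i l * l⁻¹ = l ^ (2 ^ i - 1) := fun l => by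
      rcases eq_or_ne l 0 with rfl | hl
      · rw [inv_zero, mul_zero, zero_pow (by omega)]
      · rw [frob, pow_sub₀ _ hl (by omega), pow_one]
    rw [Finset.sum_congr rfl fun l _ => h l]
    exact FiniteField.sum_pow_lt_card_sub_one F _ (by rw [hF]; omega)

theorem trace_cases (l : F) :
    (∑ i ∈ Finset.range (2 * m + 1), frob i l) = 0 ∨ (∑ i ∈ Finset.range (2 * m + 1), frob i l) = 1 := by
  have hS := isSuzField hF
  haveI := hS.1
  set T := ∑ i ∈ Finset.range (2 * m + 1), frob i l with hT
  have h : T * T = T * 1 := by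
    rw [mul_one, ← sq, hT, sum_pow_char 2]
    have e : ∀ i, frob i l ^ 2 = frob (i + 1) l := fun i => by rw [frob, frob, ← pow_mul, ← pow_succ]
    rw [Finset.sum_congr rfl fun i _ => e i]
    have h1 := Finset.sum_range_succ' (fun i => frob i l) (2 * m + 1)
    rw [Finset.sum_range_succ, show frob (2 * m + 1) l = frob 0 l by rw [frob, frob, pow_zero, pow_one]; exact hS.2 l] at h1
    exact add_right_cancel h1.symm
  rcases eq_or_ne T 0 with h0 | h0
  · exact Or.inl h0
  · exact Or.inr (mul_left_cancel₀ h0 h)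

/-- An additive map is the sum of its semilinear components. -/
theorem sum_comp (X : M₂ → M₁) (hX : ∀ c c', X (c + c') = X c + X c') (c : M₂) :
    (∑ i ∈ Finset.range (2 * m + 1), cmp i X c) = X c := by
  have h0 : X 0 = 0 := by
    have h := hX 0 0
    rw [add_zero] at h
    exact left_eq_add.1 h
  simp only [comp]
  rw [Finset.sum_comm]
  let Xh : M₂ →+ M₁ := AddMonoidHom.mk' X hX
  have e : ∀ l : F, (∑ i ∈ Finset.range (2 * m + 1), frob i l • X (l⁻¹ • c)) =
      Xh (((∑ i ∈ Finset.range (2 * m + 1), frob i l) * l⁻¹) • c) := fun l => by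
    rw [← Finset.sum_smul]
    rcases trace_cases hF l with h | h <;> rw [h]
    · rw [zero_smul, zero_mul, zero_smul, map_zero]
    · rw [one_smul, one_mul]; rfl
  rw [Finset.sum_congr rfl fun l _ => e l, ← map_sum, ← Finset.sum_smul]
  rw [show (∑ l : F, (∑ i ∈ Finset.range (2 * m + 1), frob i l) * l⁻¹) = 1 by
    simp only [Finset.sum_mul]
    rw [Finset.sum_comm, Finset.sum_congr rfl fun i hi => sum_frob_div hF (Finset.mem_range.1 hi)]
    simp]
  rw [one_smul]
  rfl

omit hF in
theorem comp_smul (i : ℕ) (X : M₂ → M₁) (a : F) (c : M₂) (hX : X 0 = 0) :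
    cmp i X (a • c) = frob i a • cmp i X c := by
  classical
  rcases eq_or_ne a 0 with rfl | ha
  · rw [frob, zero_pow (by positivity), zero_smul, zero_smul]
    simp [comp, smul_zero, hX]
  · rw [comp, comp, Finset.smul_sum]
    refine (Fintype.sum_equiv (Equiv.mulLeft₀ a ha) (fun l => frob i a • frob i l • X (l⁻¹ • c))
      (fun l => frob i l • X (l⁻¹ • a • c)) fun l => ?_).symm
    show _ = frob i (a * l) • X ((a * l)⁻¹ • a • c)
    rw [smul_smul _ a, frob_mul, smul_smul, mul_inv, mul_comm a⁻¹, mul_assoc, inv_mul_cancel₀ ha, mul_one]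

omit hF in
theorem comp_add (i : ℕ) (X Y : M₂ → M₁) (c : M₂) :
    cmp i (fun c => X c + Y c) c = cmp i X c + cmp i Y c := by
  simp only [comp, smul_add, Finset.sum_add_distrib]

omit hF in
theorem comp_left (i : ℕ) (a : F) (X : M₂ → M₁) (c : M₂) :
    cmp i (fun c => a • X c) c = a • cmp i X c := by
  simp only [comp, Finset.smul_sum, smul_smul, mul_comm a]

omit hF in
theorem comp_right (i : ℕ) (a : F) (X : M₂ → M₁) (c : M₂) :
    cmp i (fun c => X (a • c)) c = cmp i X (a • c) := by
  simp only [comp, smul_smul, mul_comm a]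

/-- A semilinear map killed by scalars. -/
theorem smul_add_self {M : Type*} [AddCommGroup M] [Module F M] (x : M) : x + x = 0 := by
  rw [← two_smul F x, two_eq_zero (isSuzField hF), zero_smul]

theorem sq_surjective (x : F) : ∃ r : F, r * r = x :=
  ⟨pw m (th m x) ^ 0 * (frob (2 * m) x), by
    rw [pow_zero, one_mul, frob, ← pow_add, ← two_mul, ← pow_succ']
    exact (isSuzField hF).2 x⟩

/-- The shape of the semilinear cocycles. -/
theorem cocycle_shape {μ : F → F} (D : F → M₂ → M₁) (h1 : ∀ c, D 1 c = 0)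
    (hD : ∀ s t c, D (s * t) c = μ s • D t c + t • D s c) :
    (∀ s c, D s c = 0) ∨
      ((∃ s, μ s ≠ s) ∧ ∃ X : M₂ → M₁, ∀ t c, D t c = (μ t + t) • X c) := by
  have hS := isSuzField hF
  by_cases hid : ∀ s, μ s = s
  · left
    intro s c
    obtain ⟨r, rfl⟩ := sq_surjective hF s
    rw [hD, hid, smul_add_self hF]
  · right
    push Not at hid
    obtain ⟨s, hs⟩ := hid
    refine ⟨⟨s, hs⟩, fun c => (μ s + s)⁻¹ • D s c, fun t c => ?_⟩
    have hne : μ s + s ≠ 0 := fun h => hs (by rw [eq_neg_of_add_eq_zero_left h, neg_eq hS])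
    have h := (hD s t c).symm.trans ((congrArg (D · c) (mul_comm s t)).trans (hD t s c))
    show D t c = (μ t + t) • (μ s + s)⁻¹ • D s c
    rw [smul_smul, mul_comm, ← smul_smul, eq_comm, inv_smul_eq_iff₀ hne, add_smul, add_smul]
    calc μ t • D s c + t • D s c
        = μ t • D s c + (μ s • D t c + t • D s c) + μ s • D t c := by
          rw [show μ t • D s c + (μ s • D t c + t • D s c) + μ s • D t c =
            μ t • D s c + t • D s c + (μ s • D t c + μ s • D t c) by abel, smul_add_self hF, add_zero]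
      _ = μ t • D s c + (μ t • D s c + s • D t c) + μ s • D t c := by rw [h]
      _ = μ s • D t c + s • D t c := by
          rw [show μ t • D s c + (μ t • D s c + s • D t c) + μ s • D t c =
            μ s • D t c + s • D t c + (μ t • D s c + μ t • D s c) by abel, smul_add_self hF, add_zero]

omit hF in
theorem scalar_eq_zero {a : F} {x : M₁} (h : a • x = 0) (hx : x ≠ 0) : a = 0 :=
  (smul_eq_zero.1 h).resolve_right hx

theorem mu_add {μ : F → F} (D : F → M₂ → M₁) {X : M₂ → M₁} (hadd : ∀ s t c, D (s + t) c = D s c + D t c)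
    (hX : ∀ t c, D t c = (μ t + t) • X c) {c : M₂} (hc : X c ≠ 0) (s t : F) :
    μ (s + t) = μ s + μ t := by
  have h := hadd s t c
  rw [hX, hX, hX, ← add_smul, ← sub_eq_zero, ← sub_smul] at h
  linear_combination scalar_eq_zero h hc

theorem two_sub {M : Type*} [AddCommGroup M] (P Q : M → Prop)
    (hP : ∀ a b, P a → P b → P (a + b)) (hQ : ∀ a b, Q a → Q b → Q (a + b))
    (hP' : ∀ a, P a → P (-a)) (hQ' : ∀ a, Q a → Q (-a))
    (h : ∀ a, P a ∨ Q a) : (∀ a, P a) ∨ (∀ a, Q a) := by
  by_contra hcon
  push Not at hcon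
  obtain ⟨⟨a, ha⟩, ⟨b, hb⟩⟩ := hcon
  have haQ := (h a).resolve_left ha
  have hbP := (h b).resolve_right hb
  rcases h (a + b) with h' | h'
  · exact ha (by simpa using hP _ _ h' (hP' b hbP))
  · exact hb (by simpa using hQ _ _ (hQ' a haQ) h')

omit hF in
theorem eq_zero_or_one {k : F} (h : k * k = k) : k = 0 ∨ k = 1 := by
  rcases eq_or_ne k 0 with hk | hk
  · exact Or.inl hk
  · exact Or.inr (mul_left_cancel₀ hk (h.trans (mul_one k).symm))

theorem exists_not_zero_one (hm : 1 ≤ m) : ∃ y : F, y ≠ 0 ∧ y ≠ 1 := by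
  classical
  by_contra h
  push Not at h
  have h2 : Fintype.card F ≤ 2 := by
    have : (Finset.univ : Finset F) ⊆ {0, 1} := fun x _ => by
      rcases eq_or_ne x 0 with e | e
      · simp [e]
      · simp [h x e]
    exact (Finset.card_le_card this).trans Finset.card_le_two
  have : 8 ≤ Fintype.card F := by
    rw [hF]
    calc 8 = 2 ^ 3 := rfl
      _ ≤ _ := Nat.pow_le_pow_right (by norm_num) (by omega)
  omega

/-- The first cocycle vanishes. -/
theorem first_vanish (hm : 1 ≤ m) (D : F → M₂ → M₁) (hc : ∀ s c c', D s (c + c') = D s c + D s c')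
    (hadd : ∀ s t c, D (s + t) c = D s c + D t c) (h1 : ∀ c, D 1 c = 0)
    (hI : ∀ k c, D (th m k * k) c = k • D (th m k + k) c)
    (hD : ∀ s t c, D (s * t) c = pw m s • D t ((pw m s)⁻¹ • c) + t • D s c) :
    ∀ s c, D s c = 0 := by
  have hS := isSuzField hF
  suffices h : ∀ i s c, cmp i (D s) c = 0 by
    intro s c
    rw [← sum_comp hF (D s) (hc s) c]
    exact Finset.sum_eq_zero fun i _ => h i s c
  intro i
  have h00 : ∀ s, D s (0 : M₂) = 0 := fun s => by
    have h := hc s 0 0
    rw [add_zero] at h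
    exact left_eq_add.1 h
  set μ : F → F := fun s => pw m s * frob i (pw m s)⁻¹
  have hcov : ∀ s t c, cmp i (D (s * t)) c = μ s • cmp i (D t) c + t • cmp i (D s) c := fun s t c => by
    rw [show D (s * t) = fun c => pw m s • D t ((pw m s)⁻¹ • c) + t • D s c from funext (hD s t),
      comp_add, comp_left, comp_left, comp_right, comp_smul _ _ _ _ (h00 t), smul_smul]
  have hE1 : ∀ c, cmp i (D 1) c = 0 := fun c => by simp [comp, h1]
  rcases cocycle_shape hF (fun s => cmp i (D s)) hE1 hcov with h | ⟨⟨s₀, hs₀⟩, X, hX⟩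
  · exact h
  intro s c
  by_contra hne
  have hXc : X c ≠ 0 := fun h => hne ((hX s c).trans (by rw [h, smul_zero]))
  have haddi : ∀ s t c, cmp i (D (s + t)) c = cmp i (D s) c + cmp i (D t) c := fun s t c => by
    rw [show D (s + t) = fun c => D s c + D t c from funext (hadd s t), comp_add]
  have hμadd := mu_add hF (fun s => cmp i (D s)) haddi hX hXc
  have hμmul : ∀ a b, μ (a * b) = μ a * μ b := fun a b => by
    simp only [μ, pw_mul, mul_inv, frob_mul]; ring
  have hcase : ∀ k, μ (th m k) = k ∨ μ k = k := fun k => by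
    have h := congrArg (fun f => cmp i f c) (funext (hI k) : D (th m k * k) = fun c => k • D (th m k + k) c)
    simp only [comp_left] at h
    rw [hX, hX, smul_smul, ← sub_eq_zero, ← sub_smul] at h
    have h' := scalar_eq_zero h hXc
    have h'' : (μ (th m k) + k) * (μ k + k) = 0 := by
      rw [hμmul, hμadd] at h'
      linear_combination h' + (k * μ k + k * μ (th m k) + k * k) * two_eq_zero hS
    rcases mul_eq_zero.1 h'' with h | h
    · exact Or.inl (by rw [eq_neg_of_add_eq_zero_left h, neg_eq hS])
    · exact Or.inr (by rw [eq_neg_of_add_eq_zero_left h, neg_eq hS])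
  rcases two_sub hF (fun k => μ (th m k) = k) (fun k => μ k = k)
    (fun a b ha hb => by rw [th_add hS, hμadd, ha, hb]) (fun a b ha hb => by rw [hμadd, ha, hb])
    (fun a ha => by rwa [neg_eq hS]) (fun a ha => by rwa [neg_eq hS]) hcase with h | h
  · obtain ⟨y, hy0, hy1⟩ := exists_not_zero_one hF hm
    have hμ := h (pw m (th m y))
    rw [th_pw hF, pw_th hF] at hμ
    have h' := h (pw m y)
    rw [th_pw hF] at h'
    have hp : pw m y ≠ 0 := fun e => hy0 (pw_injective hF (e.trans pw_zero.symm))
    have h3 : frob i (pw m y)⁻¹ = 1 := mul_left_cancel₀ hp (h'.trans (mul_one _).symm)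
    refine hy1 (pw_injective hF ?_)
    have h4 : frob i (pw m y) = frob i (1 : F) := by
      rw [frob_inv, inv_eq_one] at h3
      rw [h3, frob, one_pow]
    haveI := hS.1
    rw [show pw m (1 : F) = 1 from one_pow _]
    exact iterateFrobenius_inj F 2 i h4
  · exact hs₀ (h s₀)

/-- The second cocycle vanishes. -/
theorem second_vanish (hm : 1 ≤ m) (D : F → M₂ → M₁) (hc : ∀ s c c', D s (c + c') = D s c + D s c')
    (hadd : ∀ s t c, D (s + t) c = D s c + D t c) (h1 : ∀ c, D 1 c = 0)
    (hD : ∀ k t c, al m k • D t c = D (k * t) (al m k • c) + t • D k (al m k • c))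
    (hid : ∀ y c, fO m (1 : F) y • D (fO m (1 : F) y)⁻¹ c = D (fO m (1 : F) y)⁻¹ (fO m (1 : F) y • c)) :
    ∀ s c, D s c = 0 := by
  have hS := isSuzField hF
  haveI := hS.1
  suffices h : ∀ i s c, cmp i (D s) c = 0 by
    intro s c
    rw [← sum_comp hF (D s) (hc s) c]
    exact Finset.sum_eq_zero fun i _ => h i s c
  intro i
  have h00 : ∀ s, D s (0 : M₂) = 0 := fun s => by
    have h := hc s 0 0
    rw [add_zero] at h
    exact left_eq_add.1 h
  have h0 : ∀ c, D 0 c = 0 := fun c => by
    have h := hadd 0 0 c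
    rw [add_zero] at h
    exact left_eq_add.1 h
  set μ : F → F := fun s => al m s * frob i (al m s)⁻¹
  have hcov : ∀ k t c, cmp i (D (k * t)) c = μ k • cmp i (D t) c + t • cmp i (D k) c := fun k t c => by
    rcases eq_or_ne k 0 with rfl | hk
    · have e : cmp i (D 0) c = 0 := by simp [comp, h0]
      rw [zero_mul, e, smul_zero, add_zero, show μ 0 = 0 by simp [μ, al], zero_smul]
    have hx : al m k ≠ 0 := mul_ne_zero hk (pow_ne_zero _ hk)
    have e : D (k * t) = fun c => al m k • D t ((al m k)⁻¹ • c) + t • D k c := funext fun c => by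
      have h := hD k t ((al m k)⁻¹ • c)
      rw [smul_smul _ _ c, mul_inv_cancel₀ hx, one_smul] at h
      rw [h, add_assoc, smul_add_self hF, add_zero]
    rw [e, comp_add, comp_left, comp_left, comp_right, comp_smul _ _ _ _ (h00 t), smul_smul]
  have hE1 : ∀ c, cmp i (D 1) c = 0 := fun c => by simp [comp, h1]
  rcases cocycle_shape hF (fun s => cmp i (D s)) hE1 hcov with h | ⟨-, X, hX⟩
  · exact h
  intro s c
  by_contra hne
  have hXc : X c ≠ 0 := fun h => hne ((hX s c).trans (by rw [h, smul_zero]))
  have haddi : ∀ s t c, cmp i (D (s + t)) c = cmp i (D s) c + cmp i (D t) c := fun s t c => by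
    rw [show D (s + t) = fun c => D s c + D t c from funext (hadd s t), comp_add]
  have hμadd := mu_add hF (fun s => cmp i (D s)) haddi hX hXc
  have hμ1 : μ 1 = 1 := by simp [μ, al, pw, frob]
  have hfix : ∀ k : F, frob i k = k → k = 0 ∨ k = 1 := by
    intro k hk
    by_contra hcon
    push Not at hcon
    have hone : ∀ z : F, z ≠ 0 → frob i z = z → μ z = 1 := fun z hz hzk => by
      have hx : al m z ≠ 0 := mul_ne_zero hz (pow_ne_zero _ hz)
      have e : frob i (al m z) = al m z := by
        rw [al, frob_mul, hzk, pw, show frob i (z ^ 2 ^ m) = frob i z ^ 2 ^ m from (pow_right_comm z _ _), hzk]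
      show al m z * frob i (al m z)⁻¹ = 1
      rw [frob_inv, e, mul_inv_cancel₀ hx]
    have hk1 : k + 1 ≠ 0 := fun h => hcon.2 (by rw [eq_neg_of_add_eq_zero_left h, neg_eq hS])
    have h := hμadd k 1
    rw [hone _ hk1 (by rw [frob_add hF, hk, frob, one_pow]), hone k hcon.1 hk, hμ1, add_self hS] at h
    exact one_ne_zero h
  have hmu : ∀ k : F, μ k = k → k = 0 ∨ k = 1 := by
    intro k hk
    by_contra hcon
    push Not at hcon
    have key : ∀ z : F, z ≠ 0 → μ z = z → frob i z * frob i (pw m z) = pw m z := fun z hz hzk => by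
      have hx : al m z ≠ 0 := mul_ne_zero hz (pow_ne_zero _ hz)
      have hf : frob i (al m z) ≠ 0 := pow_ne_zero _ hx
      rw [show μ z = al m z * frob i (al m z)⁻¹ from rfl, frob_inv, ← div_eq_mul_inv, div_eq_iff hf, al,
        frob_mul] at hzk
      exact (mul_left_cancel₀ hz hzk).symm
    have hk1 : k + 1 ≠ 0 := fun h => hcon.2 (by rw [eq_neg_of_add_eq_zero_left h, neg_eq hS])
    have h := key _ hk1 (by rw [hμadd, hk, hμ1])
    have hk' := key k hcon.1 hk
    have e1 : frob i (1 : F) = 1 := one_pow _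
    have e2 : pw m (1 : F) = 1 := one_pow _
    rw [pw_add hF, e2, frob_add hF, frob_add hF, e1] at h
    have h3 : frob i (pw m k) = frob i k := by
      linear_combination h - hk' - frob i k * two_eq_zero hS
    have h4 : pw m k = k := iterateFrobenius_inj F 2 i h3
    rcases eq_zero_or_one (k := k) (by
      calc k * k = th m (th m k) := by rw [th_th hS, sq]
        _ = th m (th m (pw m k)) := by rw [h4]
        _ = k := by rw [th_pw hF, ← h4, th_pw hF, h4]) with h | h
    · exact hcon.1 h
    · exact hcon.2 h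
  obtain ⟨y, hy0, hy1⟩ := exists_not_zero_one hF hm
  have hfe : fO m (1 : F) y = y + 1 + th m y := by simp [fO, th_one hS]
  have hf1 : fO m (1 : F) y ≠ 1 := fun h => by
    have h' : th m y = y := by rw [hfe] at h; linear_combination h - y * two_eq_zero hS
    rcases eq_zero_or_one (k := y) (by rw [← sq, ← th_th hS, h', h']) with e | e
    · exact hy0 e
    · exact hy1 e
  have hf0 : fO m (1 : F) y ≠ 0 := fO_ne_zero hS (by simp)
  set f := fO m (1 : F) y
  have h := congrArg (fun g => cmp i g c)
    (funext (hid y) : (fun c => f • D f⁻¹ c) = fun c => D f⁻¹ (f • c))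
  simp only [comp_left, comp_right, comp_smul _ _ _ _ (h00 _)] at h
  rw [hX, smul_smul, smul_smul, ← sub_eq_zero, ← sub_smul] at h
  have h' := scalar_eq_zero h hXc
  rw [← sub_mul] at h'
  rcases mul_eq_zero.1 h' with h'' | h''
  · rcases hfix f (by linear_combination -h'') with e | e
    · exact hf0 e
    · exact hf1 e
  · rcases hmu f⁻¹ (by rw [eq_neg_of_add_eq_zero_left h'', neg_eq hS]) with e | e
    · exact hf0 (inv_eq_zero.1 e)
    · exact hf1 (inv_eq_one.1 e)

/-- The alternating part vanishes. -/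
theorem third_vanish (hm : 1 ≤ m) (T : F → F → M₂ → M₁) (h : F → M₂ → M₁)
    (hc : ∀ s c c', h s (c + c') = h s c + h s c') (hadd : ∀ s t c, h (s + t) c = h s c + h t c)
    (h1 : ∀ c, h 1 c = 0) (hsym : ∀ b e c, T b e c = T e b c) (hdiag : ∀ b c, T b b c = 0)
    (hT : ∀ b e c, T b e c = h b (e • c) + b • h e c)
    (hcov : ∀ s b e c, T (s * b) (s * e) c = pw m s • T b e (pw m s • c)) :
    ∀ s c, h s c = 0 := by
  have hS := isSuzField hF
  suffices h' : ∀ i s c, cmp i (h s) c = 0 by
    intro s c
    rw [← sum_comp hF (h s) (hc s) c]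
    exact Finset.sum_eq_zero fun i _ => h' i s c
  intro i
  have h00 : ∀ s, h s (0 : M₂) = 0 := fun s => by
    have h := hc s 0 0
    rw [add_zero] at h
    exact left_eq_add.1 h
  have hsl : ∀ b e c, cmp i (T b e) c = frob i e • cmp i (h b) c + b • cmp i (h e) c := fun b e c => by
    rw [show T b e = fun c => h b (e • c) + b • h e c from funext (hT b e), comp_add, comp_right, comp_left,
      comp_smul _ _ _ _ (h00 b)]
  have hE1 : ∀ c, cmp i (h 1) c = 0 := fun c => by simp [comp, h1]
  have haddi : ∀ s t c, cmp i (h (s + t)) c = cmp i (h s) c + cmp i (h t) c := fun s t c => by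
    rw [show h (s + t) = fun c => h s c + h t c from funext (hadd s t), comp_add]
  intro s c
  by_contra hne
  by_cases hid : ∀ e : F, frob i e = e
  · -- covariance
    have hcv : ∀ a e c, cmp i (h (a * e)) c = (th m a / a) • cmp i (h e) c + e • cmp i (h a) c := by
      intro a e c
      rcases eq_or_ne a 0 with rfl | ha
      · have e0 : cmp i (h 0) c = 0 := by
          have := haddi 0 0 c
          rw [add_zero] at this
          exact left_eq_add.1 this
        rw [zero_mul, e0, th_zero hS, zero_div, zero_smul, smul_zero, add_zero]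
      have h' := congrArg (fun g => cmp i g c)
        (funext (hcov a 1 e) : T (a * 1) (a * e) = fun c => pw m a • T 1 e (pw m a • c))
      simp only [comp_left, comp_right, comp_smul _ (T 1 e) _ _ (show T 1 e (0 : M₂) = 0 by rw [hT, smul_zero, h00, one_smul, h00, add_zero])] at h'
      rw [hsl, hsl, hE1, smul_zero, zero_add, one_smul, hid, hid, mul_one, smul_smul, ← sq, pw_sq hF] at h'
      have h'' : cmp i (h (a * e)) c = a⁻¹ • (th m a • cmp i (h e) c + (a * e) • cmp i (h a) c) := by
        rw [← h', show ∀ p q : M₁, p + q + p = q + (p + p) from fun p q => by abel, smul_add_self hF, add_zero,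
          inv_smul_smul₀ ha]
      rw [h'', smul_add, smul_smul, smul_smul, ← mul_assoc, inv_mul_cancel₀ ha, one_mul, inv_mul_eq_div]
    rcases cocycle_shape hF (fun a => cmp i (h a)) hE1 hcv with h' | ⟨-, X, hX⟩
    · exact hne (h' s c)
    have hXc : X c ≠ 0 := fun h => hne ((hX s c).trans (by rw [h, smul_zero]))
    have hμadd := mu_add hF (fun s => cmp i (h s)) haddi hX hXc
    obtain ⟨y, hy0, hy1⟩ := exists_not_zero_one hF hm
    have hy : y + 1 ≠ 0 := fun h => hy1 (by rw [eq_neg_of_add_eq_zero_left h, neg_eq hS])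
    have h2 := hμadd y 1
    rw [th_add hS, th_one hS, div_one] at h2
    field_simp at h2
    have h3 : th m y = y ^ 2 := by linear_combination -h2 - y ^ 2 * two_eq_zero hS
    have h4 : y ^ 2 * y ^ 2 = y ^ 2 := by
      have h5 := congrArg (th m) h3
      rw [th_th hS, th_pow hS, h3] at h5
      rw [← pow_two]; exact h5.symm
    rcases eq_zero_or_one h4 with e | e
    · exact hy0 (by simpa using e)
    · exact hy1 (sq_injective hS (by rw [e, one_pow]))
  · push Not at hid
    obtain ⟨e₀, he₀⟩ := hid
    have he : frob i e₀ + e₀ ≠ 0 := fun h => he₀ (by rw [eq_neg_of_add_eq_zero_left h, neg_eq hS])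
    set X := (frob i e₀ + e₀)⁻¹ • cmp i (h e₀) c
    have hh : ∀ b, cmp i (h b) c = (frob i b + b) • X := fun b => by
      have h1 := congrArg (fun g => cmp i g c) (funext (hsym b e₀) : T b e₀ = T e₀ b)
      simp only [hsl] at h1
      rw [smul_smul, mul_comm, ← smul_smul, eq_comm, inv_smul_eq_iff₀ he, add_smul, add_smul]
      calc frob i b • cmp i (h e₀) c + b • cmp i (h e₀) c
          = frob i b • cmp i (h e₀) c + (frob i e₀ • cmp i (h b) c + b • cmp i (h e₀) c)
            + frob i e₀ • cmp i (h b) c := by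
            rw [show ∀ p q r : M₁, p + (q + r) + q = p + r + (q + q) from fun p q r => by abel,
              smul_add_self hF, add_zero]
        _ = frob i b • cmp i (h e₀) c + (frob i b • cmp i (h e₀) c + e₀ • cmp i (h b) c)
            + frob i e₀ • cmp i (h b) c := by rw [h1]
        _ = frob i e₀ • cmp i (h b) c + e₀ • cmp i (h b) c := by
            rw [show ∀ p q r : M₁, p + (p + q) + r = r + q + (p + p) from fun p q r => by abel,
              smul_add_self hF, add_zero]
    have hXne : X ≠ 0 := fun h => hne ((hh s).trans (by rw [h, smul_zero]))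
    have h2 : cmp i (T e₀ e₀) c = 0 := by simp [comp, hdiag]
    rw [hsl, ← add_smul, hh, smul_smul] at h2
    exact he (mul_self_eq_zero.1 (scalar_eq_zero h2 hXne))

end CfsgLib.CIT.Suz
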