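import Cfsg.Agent.Lib.CIT.Suz.Good
import Cfsg.Agent.Lib.CIT.Suz.Semilinear

/-!
# Extensions of good modules of the Suzuki groups are good
-/

set_option autoImplicit false
set_option linter.unusedSectionVars false
set_option linter.style.haveILetI false
set_option maxHeartbeats 800000

namespace CfsgLib.CIT.Suz

open CfsgLib.Lie.Suz

universe u

variable {F : Type} [Field F] [Fintype F] {m : ℕ} (hm : 1 ≤ m)
  (hF : Fintype.card F = 2 ^ (2 * m + 1))
  {V₁ V V₂ : Type u} [AddCommGroup V₁] [DistribMulAction (Cfsg.Sz F m) V₁]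
  [AddCommGroup V] [DistribMulAction (Cfsg.Sz F m) V]
  [AddCommGroup V₂] [DistribMulAction (Cfsg.Sz F m) V₂]

local notation "u₁" => TS hF (1 : F) 0
local notation "z₁" => TS hF (0 : F) 1
local notation "w₀" => WS (m := m) hF
local notation "A" => scal (m := m) hF

/-- An exact sequence whose outer terms are good. -/
structure Seq (i : V₁ →+ V) (f : V →+ V₂) : Prop where
  imap : ∀ (g : Cfsg.Sz F m) x, i (g • x) = g • i x
  fmap : ∀ (g : Cfsg.Sz F m) x, f (g • x) = g • f x
  inj : Function.Injective i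
  surj : Function.Surjective f
  exact_iff : ∀ v, f v = 0 ↔ ∃ x, i x = v
  two : ∀ v : V, v + v = 0
  fpf : FPF (m := m) hF V
  good₁ : Good (m := m) hF V₁
  good₂ : Good (m := m) hF V₂

theorem map_nOne (f : V →+ V₂) (hf : ∀ (g : Cfsg.Sz F m) x, f (g • x) = g • f x) (v : V) :
    f (nOne hF v) = nOne hF (f v) := by
  simp only [nOne_apply, map_add, hf]

theorem nOne_delta (v : V) :
    nOne hF v = u₁ • (z₁ • v + v) + (z₁ • v + v) := by
  rw [nOne_apply, smul_add, ← mul_smul]; abel

theorem nOne_TS_zero (b : F) (v : V) : nOne (m := m) hF (TS hF 0 b • v) = TS hF 0 b • nOne hF v := by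
  have e : ∀ (c d : F) (w : V), TS hF c d • TS hF 0 b • w = TS hF 0 b • TS hF c d • w := fun c d w => by
    rw [← mul_smul, ← mul_smul, TS_comm]
  simp only [nOne_apply, smul_add, mul_smul]
  rw [e 0 1 v, e 1 0 v, e 1 0 (TS hF 0 1 • v)]

theorem TS_one_comm (a : F) :
    TS hF a 0 * u₁ = (u₁ * (TS hF a 0 * TS hF 0 (th m a + a)) : Cfsg.Sz F m) ∧
      u₁ * TS hF a 0 = (TS hF a 0 * (u₁ * TS hF 0 (th m a + a)) : Cfsg.Sz F m) := by
  have hS := isSuzField hF
  simp only [TS_mul, th_one hS, one_mul, mul_one, zero_add, add_zero, mul_zero]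
  have h2 := two_eq_zero hS
  constructor <;> congr 1 <;> grind

/-- The fixed points of a good module as a vector space. -/
noncomputable abbrev fixModule [Finite V] (hg : Good (m := m) hF V) :
    Module F (fixU (m := m) hF : AddSubgroup V) where
  smul x c := ⟨A x c, scal_mem hF c.2 x⟩
  one_smul c := Subtype.ext (scal_one hF _)
  mul_smul x y c := Subtype.ext (scal_mul hF x y _)
  smul_zero x := Subtype.ext (scal_apply_zero hF x)
  smul_add x c c' := Subtype.ext (scal_map_add hF x _ _)
  add_smul x y c := Subtype.ext (scal_add hm hF (hg.top hm hF) c.2 x y)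
  zero_smul c := Subtype.ext (scal_zero hF _)

variable {i : V₁ →+ V} {f : V →+ V₂} (hs : Seq (m := m) hF i f)

/-- A lift fixed by the element of order four. -/
noncomputable def lift (c : V₂) : V := nOne (m := m) hF (w₀ • Function.surjInv hs.surj c)

/-- The preimage in the submodule. -/
noncomputable def pre (i : V₁ →+ V) (v : V) : V₁ := Function.invFun i v

include hs

theorem i_pre {v : V} (h : f v = 0) : i (pre i v) = v := Function.invFun_eq ((hs.exact_iff v).1 h)

theorem f_i (x : V₁) : f (i x) = 0 := (hs.exact_iff _).2 ⟨x, rfl⟩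

theorem u_lift (c : V₂) : u₁ • lift hF hs c = lift hF hs c := u_smul_nOne hF _

theorem z_lift (c : V₂) : z₁ • lift hF hs c = lift hF hs c := z_smul_of_u hF (u_lift hF hs c)

theorem f_lift {c : V₂} (hc : c ∈ fixU (m := m) hF) : f (lift hF hs c) = c := by
  rw [lift, map_nOne hF f hs.fmap, hs.fmap, Function.surjInv_eq hs.surj, nOne_W hF hs.good₂.fpf (hc 1 0),
    neg_self hs.good₂.two]

/-- The defect of a translation on the lifts. -/
noncomputable def defect (a b : F) (c : V₂) : V₁ :=
  pre i (TS hF a b • lift hF hs c + lift hF hs c)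

theorem i_defect (a b : F) {c : V₂} (hc : c ∈ fixU (m := m) hF) :
    i (defect hF hs a b c) = TS hF a b • lift hF hs c + lift hF hs c :=
  i_pre hF hs (by rw [map_add, hs.fmap, f_lift hF hs hc, hc, hs.good₂.two])

theorem TS_lift (a b : F) {c : V₂} (hc : c ∈ fixU (m := m) hF) :
    TS hF a b • lift hF hs c = lift hF hs c + i (defect hF hs a b c) := by
  rw [i_defect hF hs a b hc, show ∀ p q : V, p + (q + p) = q + (p + p) from fun p q => by abel, hs.two,
    add_zero]

theorem fixed_diff {v w : V} (hv : u₁ • v = v) (hw : u₁ • w = w) (h : f v = f w) :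
    ∃ r ∈ fixU (m := m) hF (V := V₁), v = w + i r := by
  have h0 : f (v - w) = 0 := by rw [map_sub, h, sub_self]
  obtain ⟨r, hr⟩ := (hs.exact_iff _).1 h0
  refine ⟨r, hs.good₁.fix r (hs.inj ?_), by rw [hr, add_sub_cancel]⟩
  rw [hs.imap, hr, smul_sub, hv, hw]

theorem defect_add (a b : F) {c c' : V₂} (hc : c ∈ fixU (m := m) hF) (hc' : c' ∈ fixU (m := m) hF) :
    defect hF hs a b (c + c') = defect hF hs a b c + defect hF hs a b c' := by
  obtain ⟨r, hr, e⟩ := fixed_diff hF hs (v := lift hF hs (c + c')) (w := lift hF hs c + lift hF hs c')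
    (u_lift hF hs _) (by rw [smul_add, u_lift, u_lift])
    (by rw [map_add, f_lift hF hs hc, f_lift hF hs hc', f_lift hF hs (add_mem hc hc')])
  refine hs.inj ?_
  rw [map_add, i_defect hF hs a b (add_mem hc hc'), i_defect hF hs a b hc, i_defect hF hs a b hc', e,
    smul_add, smul_add, ← hs.imap, hr a b]
  rw [show ∀ p q r s t : V, p + q + r + (s + t + r) = p + s + (q + t) + (r + r) from fun p q r s t => by abel,
    hs.two, add_zero]

theorem defect_zero_mem (b : F) {c : V₂} (hc : c ∈ fixU (m := m) hF) :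
    defect hF hs 0 b c ∈ fixU (m := m) hF := by
  refine hs.good₁.fix _ (hs.inj ?_)
  rw [hs.imap, i_defect hF hs 0 b hc, smul_add, ← mul_smul, ← TS_comm, mul_smul, u_lift]

theorem defect_zero_add (b b' : F) {c : V₂} (hc : c ∈ fixU (m := m) hF) :
    defect hF hs 0 (b + b') c = defect hF hs 0 b c + defect hF hs 0 b' c := by
  have hS := isSuzField hF
  refine hs.inj ?_
  have e : TS hF 0 (b + b') = (TS hF 0 b * TS hF 0 b' : Cfsg.Sz F m) := by
    rw [TS_mul, th_zero hS, zero_mul, add_zero, add_zero]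
  rw [i_defect hF hs 0 _ hc, map_add, e, mul_smul, TS_lift hF hs 0 b' hc, smul_add, TS_lift hF hs 0 b hc,
    ← hs.imap, defect_zero_mem hF hs b' hc 0 b,
    show ∀ p q r : V, p + q + r + p = q + r + (p + p) from fun p q r => by abel, hs.two, add_zero]

theorem defect_zero_one {c : V₂} (hc : c ∈ fixU (m := m) hF) : defect hF hs 0 1 c = 0 := by
  refine hs.inj ?_
  rw [i_defect hF hs 0 1 hc, z_lift, hs.two, map_zero]

variable [Finite V₁] [Finite V₂]

local notation "π₁" => (nOne (m := m) hF : V₁ →+ V₁)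
local notation "π₂" => (nOne (m := m) hF : V₂ →+ V₂)
local notation "𝒹" => crd (m := m) hF π₁
local notation "ℰ" => crd (m := m) hF π₂

include hm

theorem defect_translation (a : F) {c : V₂} (hc : c ∈ fixU (m := m) hF) :
    𝒹 3 (defect hF hs a 0 c) = 0 ∧ 𝒹 2 (defect hF hs a 0 c) = 0 ∧
      defect hF hs 0 (th m a + a) c = 𝒹 1 (defect hF hs a 0 c) ∧
      defect hF hs 0 (th m a * a) c = A a (defect hF hs 0 (th m a + a) c) := by
  have hS := isSuzField hF
  have hπ := hs.good₁.top hm hF
  set e := defect hF hs a 0 c with he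
  have hze : z₁ • e = e := hs.inj (by
    rw [hs.imap, i_defect hF hs a 0 hc, smul_add, ← mul_smul, TS_comm, mul_smul, z_lift])
  obtain ⟨-, -, z1, z0⟩ := crd_TS hm hF hπ 0 1 e
  rw [hze, th_zero hS, scal_zero, add_zero, scal_one, left_eq_add] at z1
  rw [hze, z1, scal_apply_zero, add_zero, th_zero hS, zero_mul, add_zero, scal_one, scal_zero, add_zero,
    left_eq_add] at z0
  have hde := defect_zero_mem hF hs (th m a + a) hc
  have key : defect hF hs 0 (th m a + a) c = u₁ • e + e := by
    refine hs.inj ?_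
    rw [map_add, hs.imap]
    have h1 : TS hF a 0 • lift hF hs c = TS hF a 0 • u₁ • lift hF hs c := by rw [u_lift]
    rw [TS_lift hF hs a 0 hc, ← he, ← mul_smul, (TS_one_comm hF a).1, mul_smul, mul_smul,
      TS_lift hF hs 0 _ hc, smul_add, ← hs.imap, hde a 0, TS_lift hF hs a 0 hc, ← he, smul_add, smul_add,
      u_lift, ← hs.imap, ← hs.imap, hde 1 0, add_assoc] at h1
    rw [← hs.imap, add_left_cancel h1,
      show ∀ p q : V, p + (p + q) = q + (p + p) from fun p q => by abel, hs.two, add_zero]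
  obtain ⟨t3, t2, t1, t0⟩ := crd_TS hm hF hπ 1 0 e
  rw [z1, scal_apply_zero, add_zero, z0] at t2
  rw [z1, z0, scal_apply_zero, scal_apply_zero, add_zero, add_zero] at t1
  rw [z1, z0, scal_apply_zero, scal_apply_zero, add_zero, add_zero, scal_one] at t0
  obtain ⟨hue, hue'⟩ := eq_fix_of_crd hm hF hπ (v := u₁ • e + e)
    (by rw [map_add, t3, hs.good₁.two]) (by rw [map_add, t2, z0, add_zero])
    (by rw [map_add, t1, hs.good₁.two])
  have h1e : defect hF hs 0 (th m a + a) c = 𝒹 1 e := by
    rw [key, hue', map_add, t0, show ∀ p q : V₁, p + q + p = q + (p + p) from fun p q => by abel,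
      hs.good₁.two, add_zero]
  refine ⟨z1, z0, h1e, ?_⟩
  obtain ⟨r3, r2, r1, r0⟩ := crd_TS hm hF hπ a 0 e
  rw [z1, scal_apply_zero, add_zero, z0] at r2
  rw [z1, z0, scal_apply_zero, scal_apply_zero, add_zero, add_zero] at r1
  rw [z1, z0, scal_apply_zero, scal_apply_zero, add_zero, add_zero] at r0
  obtain ⟨hre, hre'⟩ := eq_fix_of_crd hm hF hπ (v := TS hF a 0 • e + e)
    (by rw [map_add, r3, hs.good₁.two]) (by rw [map_add, r2, z0, add_zero])
    (by rw [map_add, r1, hs.good₁.two])
  have key2 : defect hF hs 0 (th m a * a) c = TS hF a 0 • e + e := by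
    refine hs.inj ?_
    rw [i_defect hF hs 0 _ hc, map_add, hs.imap,
      show TS hF 0 (th m a * a) = (TS hF a 0 * TS hF a 0 : Cfsg.Sz F m) by
        rw [TS_mul, add_self hS, zero_add, zero_add],
      mul_smul, TS_lift hF hs a 0 hc, ← he, smul_add, TS_lift hF hs a 0 hc, ← he,
      show ∀ p q r : V, p + q + r + p = r + q + (p + p) from fun p q r => by abel, hs.two, add_zero]
  rw [key2, hre', map_add, r0, h1e, show ∀ p q : V₁, p + q + p = q + (p + p) from fun p q => by abel,
    hs.good₁.two, add_zero]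

theorem covariance (k : Fˣ) {c : V₂} (hc : c ∈ fixU (m := m) hF) :
    ∃ w : V₁, HS hF k • lift hF hs c = lift hF hs (A (al m (k : F)) c) + i w ∧
      (∀ b : F, A (al m (k : F)) (defect hF hs 0 (b / (th m (k : F) * k)) c) =
        defect hF hs 0 b (A (al m (k : F)) c) + (TS hF 0 b • w + w)) ∧
      (∀ a : F, A (al m (k : F)) (defect hF hs (a / k) 0 c) =
        A 1 (defect hF hs a 0 (A (al m (k : F)) c)) + (TS hF a 0 • w + w)) := by
  have hS := isSuzField hF
  have hk := k.ne_zero
  have hth : th m (k : F) ≠ 0 := fun h => hk (th_eq_zero hS h)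
  set x := al m (k : F)
  have hc' := scal_mem hF hc x
  set w := pre i (HS hF k • lift hF hs c + lift hF hs (A x c))
  have hw : i w = HS hF k • lift hF hs c + lift hF hs (A x c) :=
    i_pre hF hs (by rw [map_add, hs.fmap, f_lift hF hs hc, f_lift hF hs hc', HS_smul, hs.good₂.two])
  have e1 : HS hF k • lift hF hs c = lift hF hs (A x c) + i w := by
    rw [hw, show ∀ p q : V, p + (q + p) = q + (p + p) from fun p q => by abel, hs.two, add_zero]
  have gen : ∀ (a b a' b' : F), HS hF k * TS hF a' b' = (TS hF a b * HS hF k : Cfsg.Sz F m) →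
      A x (defect hF hs a' b' c) = defect hF hs a b (A x c) + (TS hF a b • w + w) := by
    intro a b a' b' hrel
    refine hs.inj ?_
    rw [← HS_smul, hs.imap, i_defect hF hs a' b' hc, map_add, i_defect hF hs a b hc', map_add, hs.imap,
      smul_add, ← mul_smul, hrel, mul_smul, e1, smul_add]
    abel
  refine ⟨w, e1, fun b => gen 0 b 0 _ ?_, fun a => ?_⟩
  · rw [HS_TS, mul_zero, mul_div_cancel₀ _ (mul_ne_zero hth hk)]
  · rw [scal_one]
    refine gen a 0 _ 0 ?_
    rw [HS_TS, mul_zero, mul_div_cancel₀ _ hk]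

/-- The defects of the centre vanish. -/
theorem defect_zero (b : F) {c : V₂} (hc : c ∈ fixU (m := m) hF) : defect hF hs 0 b c = 0 := by
  have hS := isSuzField hF
  have hπ := hs.good₁.top hm hF
  letI := fixModule hm hF hs.good₂
  letI := fixModule hm hF hs.good₁
  let D : F → (fixU (m := m) hF : AddSubgroup V₂) → (fixU (m := m) hF : AddSubgroup V₁) := fun s c =>
    ⟨defect hF hs 0 s c, defect_zero_mem hF hs s c.2⟩
  suffices h : ∀ s c, D s c = 0 from congrArg Subtype.val (h b ⟨c, hc⟩)
  refine first_vanish hF hm D (fun s c c' => Subtype.ext (defect_add hF hs 0 s c.2 c'.2))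
    (fun s t c => Subtype.ext (defect_zero_add hF hs s t c.2))
    (fun c => Subtype.ext (defect_zero_one hF hs c.2))
    (fun k c => Subtype.ext (defect_translation hm hF hs k c.2).2.2.2) fun s t ⟨c, hc⟩ => Subtype.ext ?_
  show defect hF hs 0 (s * t) c =
    A (pw m s) (defect hF hs 0 t (A (pw m s)⁻¹ c)) + A t (defect hF hs 0 s c)
  rcases eq_or_ne s 0 with rfl | hs0
  · have h0 : defect hF hs 0 0 c = 0 := hs.inj (by
      rw [i_defect hF hs 0 0 hc, TS_zero, one_smul, hs.two, map_zero])
    rw [zero_mul, h0, pw_zero, scal_zero, scal_apply_zero, add_zero]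
  obtain ⟨k, rfl⟩ := exists_kth_eq hF (m := m) hs0
  have hp : pw m (th m (k : F) * k) = al m (k : F) := by rw [pw_mul, pw_th hF, al]
  have hx : al m (k : F) ≠ 0 := mul_ne_zero k.ne_zero (pow_ne_zero _ k.ne_zero)
  obtain ⟨w, -, hb, -⟩ := covariance hm hF hs k (scal_mem hF hc (al m (k : F))⁻¹)
  simp only [← scal_mul, mul_inv_cancel₀ hx, scal_one] at hb
  rw [hp]
  set η := th m (k : F) * k
  set c' := A (al m (k : F))⁻¹ c
  obtain ⟨q3, q2, q1, q0⟩ := crd_TS hm hF hπ 0 1 w
  have h1 := hb 1
  have hw3 : 𝒹 3 w = 0 := by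
    have hf : TS hF 0 1 • w + w ∈ fixU (m := m) hF := by
      have hm1 := scal_mem hF (defect_zero_mem hF hs (1 / η) (scal_mem hF hc (al m (k : F))⁻¹)) (al m (k : F))
      rw [h1, defect_zero_one hF hs hc, zero_add] at hm1
      exact hm1
    have h' := (crd_fixU hm hF hπ hf).2.2.1
    rwa [map_add, q1, th_zero hS, scal_zero, add_zero, scal_one,
      show ∀ p q : V₁, p + q + p = q + (p + p) from fun p q => by abel, hs.good₁.two, add_zero] at h'
  have hzw : ∀ b, TS hF 0 b • w + w = A b (𝒹 2 w) := fun b => by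
    obtain ⟨p3, p2, p1, p0⟩ := crd_TS hm hF hπ 0 b w
    rw [scal_zero, add_zero] at p2
    rw [hw3, scal_apply_zero, add_zero, th_zero hS, scal_zero, add_zero] at p1
    rw [hw3, scal_apply_zero, add_zero, th_zero hS, zero_mul, add_zero, scal_zero, add_zero] at p0
    obtain ⟨-, e⟩ := eq_fix_of_crd hm hF hπ (v := TS hF 0 b • w + w) (by rw [map_add, p3, hs.good₁.two])
      (by rw [map_add, p2, hs.good₁.two]) (by rw [map_add, p1, hs.good₁.two])
    rw [e, map_add, p0, show ∀ p q : V₁, p + q + p = q + (p + p) from fun p q => by abel, hs.good₁.two,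
      add_zero]
  have hη := hb η
  rw [div_self hs0, defect_zero_one hF hs (scal_mem hF hc _), scal_apply_zero, hzw] at hη
  have ht := hb (η * t)
  rw [mul_div_cancel_left₀ _ hs0, hzw, mul_comm η t, scal_mul hF t η,
    show A η (𝒹 2 w) = defect hF hs 0 η c by
      rw [← neg_self hs.good₁.two (defect hF hs 0 η c), eq_neg_iff_add_eq_zero, add_comm]
      exact hη.symm, mul_comm t η] at ht
  rw [ht, add_assoc, hs.good₁.two, add_zero]

/-- The double defect of the central translations on the lifted top layer. -/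
noncomputable def double (b e : F) (c : V₂) : V₁ :=
  pre i (TS hF 0 b • (TS hF 0 e • w₀ • lift hF hs c + w₀ • lift hF hs c) +
    (TS hF 0 e • w₀ • lift hF hs c + w₀ • lift hF hs c))

theorem crd_double {W : Type u} [AddCommGroup W] [DistribMulAction (Cfsg.Sz F m) W] [Finite W]
    (hW : Good (m := m) hF W) (b : F) (v : W) :
    crd (m := m) hF (nOne (m := m) hF) 3 (TS hF 0 b • v + v) = 0 ∧
    crd (m := m) hF (nOne (m := m) hF) 2 (TS hF 0 b • v + v) = 0 ∧
    crd (m := m) hF (nOne (m := m) hF) 1 (TS hF 0 b • v + v) = A b (crd (m := m) hF (nOne (m := m) hF) 3 v) ∧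
    crd (m := m) hF (nOne (m := m) hF) 0 (TS hF 0 b • v + v) =
      A (th m b) (crd (m := m) hF (nOne (m := m) hF) 3 v) + A b (crd (m := m) hF (nOne (m := m) hF) 2 v) := by
  have hS := isSuzField hF
  obtain ⟨a3, a2, a1, a0⟩ := crd_TS hm hF (hW.top hm hF) 0 b v
  have hfb : fO m (0 : F) b = th m b := by simp [fO, th_zero hS]
  rw [th_zero hS, scal_zero, add_zero] at a1
  rw [hfb, th_zero hS, zero_mul, add_zero, scal_zero, add_zero] at a0
  rw [scal_zero, add_zero] at a2
  have h := fun p q : W => show p + q + p = q from by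
    rw [show p + q + p = q + (p + p) by abel, hW.two, add_zero]
  refine ⟨?_, ?_, ?_, ?_⟩
  · rw [map_add, a3, hW.two]
  · rw [map_add, a2, hW.two]
  · rw [map_add, a1, h]
  · rw [map_add, a0, show ∀ p q r : W, p + q + r + p = q + r + (p + p) from fun p q r => by abel, hW.two,
      add_zero]

theorem double_kills {W : Type u} [AddCommGroup W] [DistribMulAction (Cfsg.Sz F m) W] [Finite W]
    (hW : Good (m := m) hF W) (b e : F) (v : W) :
    TS hF 0 b • (TS hF 0 e • v + v) + (TS hF 0 e • v + v) = 0 := by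
  obtain ⟨d3, d2, d1, d0⟩ := crd_double hm hF hs hW b (TS hF 0 e • v + v)
  obtain ⟨e3, e2, -, -⟩ := crd_double hm hF hs hW e v
  refine eq_of_crd hm hF (hW.top hm hF) fun j => ?_
  rw [map_zero]
  fin_cases j
  · exact d0.trans (by rw [e3, e2, scal_apply_zero, scal_apply_zero, add_zero])
  · exact d1.trans (by rw [e3, scal_apply_zero])
  · exact d2
  · exact d3

theorem i_double (b e : F) (c : V₂) :
    i (double hF hs b e c) = TS hF 0 b • (TS hF 0 e • w₀ • lift hF hs c + w₀ • lift hF hs c) +
      (TS hF 0 e • w₀ • lift hF hs c + w₀ • lift hF hs c) :=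
  i_pre hF hs (by simp only [map_add, hs.fmap]; exact double_kills hm hF hs hs.good₂ b e _)

theorem double_symm (b e : F) (c : V₂) : double hF hs b e c = double hF hs e b c := by
  refine hs.inj ?_
  rw [i_double hm hF hs, i_double hm hF hs, smul_add, smul_add, ← mul_smul (TS hF 0 b), TS_comm, mul_smul]
  abel

theorem double_self (b : F) (c : V₂) : double hF hs b b c = 0 := by
  have hS := isSuzField hF
  refine hs.inj ?_
  rw [i_double hm hF hs, map_zero, smul_add, ← mul_smul,
    show TS hF 0 b * TS hF 0 b = (1 : Cfsg.Sz F m) by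
      rw [TS_mul, th_zero hS, zero_mul, add_zero, add_zero, add_self hS, TS_zero],
    one_smul, add_comm (w₀ • lift hF hs c), hs.two]

theorem nOne_W_lift (c : V₂) : nOne hF (w₀ • lift hF hs c) = lift hF hs c :=
  (nOne_W hF hs.fpf (u_lift hF hs c)).trans (neg_self hs.two _)

theorem TS_zero_lift (b : F) {c : V₂} (hc : c ∈ fixU (m := m) hF) :
    TS hF 0 b • lift hF hs c = lift hF hs c := by
  rw [TS_lift hF hs 0 b hc, defect_zero hm hF hs b hc, map_zero, add_zero]

theorem double_mem_one (e : F) {c : V₂} (hc : c ∈ fixU (m := m) hF) :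
    double hF hs 1 e c ∈ fixU (m := m) hF := by
  refine hs.good₁.fix _ (hs.inj ?_)
  have h : u₁ • i (double hF hs 1 e c) + i (double hF hs 1 e c) = 0 := by
    rw [i_double hm hF hs, ← nOne_delta, map_add, nOne_TS_zero, nOne_W_lift hm hF hs,
      TS_zero_lift hm hF hs e hc, hs.two]
  rw [hs.imap]
  exact (eq_neg_of_add_eq_zero_left h).trans (neg_self hs.two _)

theorem double_crd (b e : F) {c : V₂} (hc : c ∈ fixU (m := m) hF) :
    𝒹 3 (double hF hs b e c) = 0 ∧ 𝒹 2 (double hF hs b e c) = 0 := by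
  have hS := isSuzField hF
  have h : z₁ • double hF hs b e c + double hF hs b e c = 0 := by
    have h' : TS hF 0 b • double hF hs 1 e c + double hF hs 1 e c = 0 := by
      rw [double_mem_one hm hF hs e hc 0 b, hs.good₁.two]
    refine hs.inj ?_
    rw [map_zero, ← map_zero i, ← h', map_add, map_add, hs.imap, hs.imap, i_double hm hF hs,
      i_double hm hF hs]
    simp only [smul_add, ← mul_smul]
    simp only [← mul_assoc, TS_comm hF (1 : F) 0 b]
    abel
  obtain ⟨-, -, h1, h0⟩ := crd_double hm hF hs hs.good₁ 1 (double hF hs b e c)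
  rw [h, map_zero, scal_one] at h1
  rw [h, map_zero, ← h1, scal_apply_zero, zero_add, scal_one] at h0
  exact ⟨h1.symm, h0.symm⟩

theorem double_add (b b' e : F) {c : V₂} (hc : c ∈ fixU (m := m) hF) :
    double hF hs (b + b') e c = double hF hs b e c + double hF hs b' e c := by
  have hS := isSuzField hF
  have hπ := hs.good₁.top hm hF
  obtain ⟨h3, h2⟩ := double_crd hm hF hs b' e hc
  have hfix : TS hF 0 b • double hF hs b' e c = double hF hs b' e c := by
    obtain ⟨d3, d2, d1, d0⟩ := crd_double hm hF hs hs.good₁ b (double hF hs b' e c)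
    refine (eq_neg_of_add_eq_zero_left (eq_of_crd hm hF hπ fun j => ?_)).trans (neg_self hs.good₁.two _)
    rw [map_zero]
    fin_cases j
    · exact d0.trans (by rw [h3, h2, scal_apply_zero, scal_apply_zero, add_zero])
    · exact d1.trans (by rw [h3, scal_apply_zero])
    · exact d2
    · exact d3
  refine hs.inj ?_
  have hb' : TS hF 0 b • i (double hF hs b' e c) = i (double hF hs b' e c) := by rw [← hs.imap, hfix]
  rw [map_add, i_double hm hF hs, i_double hm hF hs b e]
  set X := TS hF 0 e • w₀ • lift hF hs c + w₀ • lift hF hs c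
  have hX : TS hF 0 b' • X = X + i (double hF hs b' e c) := by
    rw [i_double hm hF hs, show ∀ p q : V, q + (p + q) = p + (q + q) from fun p q => by abel, hs.two, add_zero]
  rw [show TS hF 0 (b + b') = (TS hF 0 b * TS hF 0 b' : Cfsg.Sz F m) by
    rw [TS_mul, th_zero hS, zero_mul, add_zero, add_zero], mul_smul, hX, smul_add, hb']
  abel

/-- The double defects vanish. -/
theorem double_zero (b e : F) {c : V₂} (hc : c ∈ fixU (m := m) hF) : double hF hs b e c = 0 := by
  have hS := isSuzField hF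
  have hπ := hs.good₁.top hm hF
  have hπ2 := hs.good₂.top hm hF
  letI := fixModule hm hF hs.good₂
  letI := fixModule hm hF hs.good₁
  have hR : ∀ (b e : F) (c : V₂), c ∈ fixU (m := m) hF → double hF hs b e c ∈ fixU (m := m) hF ∧
      double hF hs b e c = double hF hs 1 b (A e c) + A b (double hF hs 1 e c) := by
    intro b e c hc
    have hc' := scal_mem hF hc e
    have hc'' := scal_mem hF hc (th m e + e)
    set r := pre i ((TS hF 0 e • w₀ • lift hF hs c + w₀ • lift hF hs c) +
      (z₁ • w₀ • lift hF hs (A e c) + w₀ • lift hF hs (A e c)) + lift hF hs (A (th m e + e) c)) with hr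
    have hir : i r = (TS hF 0 e • w₀ • lift hF hs c + w₀ • lift hF hs c) +
        (z₁ • w₀ • lift hF hs (A e c) + w₀ • lift hF hs (A e c)) + lift hF hs (A (th m e + e) c) := by
      refine i_pre hF hs ?_
      simp only [map_add, hs.fmap, f_lift hF hs hc, f_lift hF hs hc', f_lift hF hs hc'']
      obtain ⟨a3, a2, a1, a0⟩ := crd_double hm hF hs hs.good₂ e (w₀ • c)
      obtain ⟨b3, b2, b1, b0⟩ := crd_double hm hF hs hs.good₂ 1 (w₀ • A e c)
      obtain ⟨c3, c2, c1, c0⟩ := crd_fixU hm hF hπ2 hc''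
      obtain ⟨g3, g2, -, -⟩ := crd_W hm hF hπ2 hc
      obtain ⟨k3, k2, -, -⟩ := crd_W hm hF hπ2 hc'
      rw [g3] at a1
      rw [g3, g2, scal_apply_zero, add_zero] at a0
      rw [k3, scal_one] at b1
      rw [k3, k2, scal_apply_zero, add_zero, th_one hS, scal_one] at b0
      refine eq_of_crd hm hF hπ2 fun j => ?_
      rw [map_zero, map_add, map_add]
      fin_cases j
      · rw [show ((⟨0, by omega⟩ : Fin 4)) = 0 from rfl, a0, b0, c0, scal_add hm hF hπ2 hc,
          show ∀ p q : V₂, p + q + (p + q) = (p + p) + (q + q) from fun p q => by abel, hs.good₂.two,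
          hs.good₂.two, add_zero]
      · rw [show ((⟨1, by omega⟩ : Fin 4)) = 1 from rfl, a1, b1, c1, add_zero, hs.good₂.two]
      · rw [show ((⟨2, by omega⟩ : Fin 4)) = 2 from rfl, a2, b2, c2, add_zero, add_zero]
      · rw [show ((⟨3, by omega⟩ : Fin 4)) = 3 from rfl, a3, b3, c3, add_zero, add_zero]
    have hrec : ∀ b, double hF hs b e c = double hF hs b 1 (A e c) + (TS hF 0 b • r + r) := by
      intro b
      refine hs.inj ?_
      rw [map_add, map_add, hs.imap, hir, i_double hm hF hs, i_double hm hF hs]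
      simp only [smul_add, TS_zero_lift hm hF hs b hc'']
      rw [← sub_eq_zero, sub_eq_plus hs.two]
      abel_nf
      simp [hs.two, two_nsmul, two_zsmul]
    have h1b : double hF hs b 1 (A e c) ∈ fixU (m := m) hF := by
      rw [double_symm hm hF hs]; exact double_mem_one hm hF hs b hc'
    obtain ⟨p3, p2, p1, p0⟩ := crd_double hm hF hs hs.good₁ b r
    obtain ⟨q3, q2, q1, q0⟩ := crd_double hm hF hs hs.good₁ 1 r
    have h1 := hrec 1
    rw [double_self hm hF hs, zero_add] at h1
    have hr3 : 𝒹 3 r = 0 := by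
      have := (crd_fixU hm hF hπ (double_mem_one hm hF hs e hc)).2.2.1
      rw [h1, q1, scal_one] at this
      exact this
    rw [hr3, scal_apply_zero] at p1
    rw [hr3, scal_apply_zero, zero_add] at p0 q0
    obtain ⟨hpf, hpe⟩ := eq_fix_of_crd hm hF hπ p3 p2 p1
    have hdb := hrec b
    refine ⟨hdb ▸ add_mem h1b hpf, ?_⟩
    have hh : double hF hs 1 e c = 𝒹 2 r := by
      rw [h1, (eq_fix_of_crd hm hF hπ q3 q2 (by rw [q1, hr3, scal_apply_zero])).2, q0, scal_one]
    rw [hdb, hpe, p0, ← hh, double_symm hm hF hs b 1]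
  have hadd : ∀ b e (c c' : V₂), c ∈ fixU (m := m) hF → c' ∈ fixU (m := m) hF →
      double hF hs b e (c + c') = double hF hs b e c + double hF hs b e c' := by
    intro b e c c' hc hc'
    obtain ⟨r, hr, er⟩ := fixed_diff hF hs (v := lift hF hs (c + c')) (w := lift hF hs c + lift hF hs c')
      (u_lift hF hs _) (by rw [smul_add, u_lift, u_lift])
      (by rw [map_add, f_lift hF hs hc, f_lift hF hs hc', f_lift hF hs (add_mem hc hc')])
    refine hs.inj ?_
    have hk : i (TS hF 0 b • (TS hF 0 e • w₀ • r + w₀ • r) + (TS hF 0 e • w₀ • r + w₀ • r)) = 0 := by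
      rw [double_kills hm hF hs hs.good₁, map_zero]
    simp only [map_add, hs.imap] at hk
    rw [map_add, i_double hm hF hs, i_double hm hF hs, i_double hm hF hs, er, ← add_zero (_ + _ + (_ + _)), ← hk]
    simp only [smul_add]
    abel
  let T : F → F → (fixU (m := m) hF : AddSubgroup V₂) → (fixU (m := m) hF : AddSubgroup V₁) := fun b e c =>
    ⟨double hF hs b e c, (hR b e c c.2).1⟩
  have h0 : ∀ b c, T 1 b c = 0 := by
    refine third_vanish hF hm T (T 1) (fun s c c' => Subtype.ext (hadd 1 s _ _ c.2 c'.2))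
      (fun s t c => Subtype.ext ?_) (fun c => Subtype.ext (double_self hm hF hs 1 c))
      (fun b e c => Subtype.ext (double_symm hm hF hs b e c))
      (fun b c => Subtype.ext (double_self hm hF hs b c))
      (fun b e c => Subtype.ext (hR b e c c.2).2) fun s b e ⟨c, hc⟩ => Subtype.ext ?_
    · show double hF hs 1 (s + t) c = _
      rw [double_symm hm hF hs, double_add hm hF hs s t 1 c.2, double_symm hm hF hs s 1,
        double_symm hm hF hs t 1]
      rfl
    show double hF hs (s * b) (s * e) c = A (pw m s) (double hF hs b e (A (pw m s) c))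
    rcases eq_or_ne s 0 with rfl | hs0
    · rw [zero_mul, zero_mul, pw_zero, scal_zero, double_self hm hF hs]
    obtain ⟨k, rfl⟩ := exists_kth_eq hF (m := m) hs0
    have hp : pw m (th m (k : F) * k) = al m (k : F) := by rw [pw_mul, pw_th hF, al]
    rw [hp]
    set η := th m (k : F) * k
    set c₀ := A (al m (k : F)) c
    have hc₀ : c₀ ∈ fixU (m := m) hF := scal_mem hF hc _
    obtain ⟨w, hw, -⟩ := covariance hm hF hs k⁻¹ hc₀
    have hxc : A (al m ((k⁻¹ : Fˣ) : F)) c₀ = c := by
      rw [← scal_mul, Units.val_inv_eq_inv_val, show al m ((k : F)⁻¹) * al m (k : F) = 1 by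
        rw [al, al, pw, pw, inv_pow, ← mul_inv, inv_mul_cancel₀ (mul_ne_zero k.ne_zero (pow_ne_zero _ k.ne_zero))],
        scal_one]
    rw [hxc] at hw
    refine hs.inj ?_
    rw [← HS_smul, hs.imap, i_double hm hF hs, i_double hm hF hs]
    simp only [smul_add]
    simp only [← mul_smul (HS hF k), HS_TS]
    simp only [mul_zero, mul_smul]
    simp only [← mul_smul (HS hF k), HS_TS]
    simp only [mul_zero, mul_smul]
    rw [show th m (k : F) * k = η from rfl]
    have hkW : HS hF k • w₀ • lift hF hs c₀ = w₀ • (lift hF hs c + i w) := by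
      rw [← hw, ← mul_smul, ← mul_smul, WS_HS, inv_inv]
    simp only [hkW, smul_add, ← hs.imap]
    have hk := congrArg i (double_kills hm hF hs hs.good₁ (η * b) (η * e) (w₀ • w))
    simp only [map_add, map_zero, smul_add] at hk
    rw [← add_zero (_ + _ + (_ + _)), ← hk]
    abel
  rw [(hR b e c hc).2, show double hF hs 1 b (A e c) = 0 from congrArg Subtype.val (h0 b ⟨_, scal_mem hF hc e⟩),
    show double hF hs 1 e c = 0 from congrArg Subtype.val (h0 e ⟨c, hc⟩), scal_apply_zero, add_zero]

theorem translation_mem (a : F) {c : V₂} (hc : c ∈ fixU (m := m) hF) :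
    defect hF hs a 0 c ∈ fixU (m := m) hF := by
  obtain ⟨h3, h2, h1, -⟩ := defect_translation hm hF hs a hc
  rw [defect_zero hm hF hs _ hc] at h1
  exact (eq_fix_of_crd hm hF (hs.good₁.top hm hF) h3 h2 h1.symm).1

theorem nOne_TS_W (a b : F) {c : V₂} (hc : c ∈ fixU (m := m) hF) :
    nOne hF (TS hF a b • w₀ • lift hF hs c) = lift hF hs c + i (defect hF hs a 0 c) := by
  rw [TS_split, ← TS_comm hF b, mul_smul, nOne_TS_zero]
  have h : nOne hF (TS hF a 0 • w₀ • lift hF hs c) = TS hF a 0 • nOne hF (w₀ • lift hF hs c) := by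
    rw [nOne_delta, nOne_delta]
    set X := w₀ • lift hF hs c with hX
    have e1 : z₁ • TS hF a 0 • X = TS hF a 0 • z₁ • X := by rw [← mul_smul, TS_comm, mul_smul]
    rw [e1, ← smul_add, ← mul_smul u₁, (TS_one_comm hF a).2, mul_smul, mul_smul]
    have hY : TS hF 0 (th m a + a) • (z₁ • X + X) = z₁ • X + X := by
      refine (eq_neg_of_add_eq_zero_left ?_).trans (neg_self hs.two _)
      rw [hX, ← i_double hm hF hs, double_zero hm hF hs _ _ hc, map_zero]
    rw [hY, ← smul_add]
  rw [h, nOne_W_lift hm hF hs, TS_lift hF hs a 0 hc, smul_add, TS_zero_lift hm hF hs b hc, ← hs.imap,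
    translation_mem hm hF hs a hc 0 b]

theorem nOne_TS_i (a b : F) (r : V₁) :
    nOne hF (TS hF a b • w₀ • i r) = i (𝒹 0 r) := by
  rw [← hs.imap, ← hs.imap, ← map_nOne hF i hs.imap, hs.good₁.kill]
  rfl

/-- The defects of the translations vanish. -/
theorem translation_zero (a : F) {c : V₂} (hc : c ∈ fixU (m := m) hF) : defect hF hs a 0 c = 0 := by
  have hS := isSuzField hF
  have hπ := hs.good₁.top hm hF
  letI := fixModule hm hF hs.good₂
  letI := fixModule hm hF hs.good₁
  have hadd : ∀ s t c, c ∈ fixU (m := m) hF →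
      defect hF hs (s + t) 0 c = defect hF hs s 0 c + defect hF hs t 0 c := by
    intro s t c hc
    refine hs.inj ?_
    have e : TS hF (s + t) 0 • TS hF 0 (th m s * t) • lift hF hs c = TS hF s 0 • TS hF t 0 • lift hF hs c := by
      rw [← mul_smul, ← mul_smul, TS_mul, TS_mul]
      congr 2 <;> simp
    rw [TS_zero_lift hm hF hs _ hc, TS_lift hF hs t 0 hc, smul_add, TS_lift hF hs s 0 hc,
      TS_lift hF hs (s + t) 0 hc, ← hs.imap, translation_mem hm hF hs t hc s 0, add_assoc,
      ← map_add] at e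
    rw [map_add, add_left_cancel e, map_add]
  have h1 : ∀ c, c ∈ fixU (m := m) hF → defect hF hs 1 0 c = 0 := fun c hc => hs.inj (by
    rw [i_defect hF hs 1 0 hc, u_lift, hs.two, map_zero])
  -- the torus
  have hcov : ∀ (k : Fˣ) c, c ∈ fixU (m := m) hF → ∃ w : V₁,
      HS hF k • lift hF hs c = lift hF hs (A (al m (k : F)) c) + i w ∧ 𝒹 3 w = 0 ∧ 𝒹 2 w = 0 ∧
      A (k : F) (𝒹 1 w) = defect hF hs (k : F) 0 (A (al m (k : F)) c) ∧
      ∀ t : F, A (al m (k : F)) (defect hF hs t 0 c) =
        defect hF hs ((k : F) * t) 0 (A (al m (k : F)) c) + A t (defect hF hs (k : F) 0 (A (al m (k : F)) c)) := by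
    intro k c hc
    obtain ⟨w, hw, hb, ha⟩ := covariance hm hF hs k hc
    have hc' := scal_mem hF hc (al m (k : F))
    obtain ⟨p3, p2, p1, p0⟩ := crd_double hm hF hs hs.good₁ 1 w
    have h := hb 1
    rw [defect_zero hm hF hs _ hc, defect_zero hm hF hs _ hc', scal_apply_zero, zero_add] at h
    rw [← h, map_zero, scal_one] at p1
    rw [← h, map_zero, th_one hS, scal_one, scal_one, ← p1, zero_add] at p0
    have huw : ∀ a, TS hF a 0 • w + w = A a (𝒹 1 w) := by
      intro a
      obtain ⟨a3, a2, a1, a0⟩ := crd_TS hm hF hπ a 0 w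
      rw [← p1, scal_apply_zero, add_zero] at a2
      rw [← p1, ← p0, scal_apply_zero, scal_apply_zero, add_zero, add_zero] at a1
      rw [← p1, ← p0, scal_apply_zero, scal_apply_zero, add_zero, add_zero] at a0
      rw [(eq_fix_of_crd hm hF hπ (v := TS hF a 0 • w + w) (by rw [map_add, a3, hs.good₁.two])
        (by rw [map_add, a2, hs.good₁.two]) (by rw [map_add, a1, hs.good₁.two])).2, map_add, a0,
        show ∀ p q : V₁, p + q + p = q + (p + p) from fun p q => by abel, hs.good₁.two, add_zero]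
    have hk := ha (k : F)
    rw [div_self k.ne_zero, h1 c hc, scal_apply_zero, scal_one, huw] at hk
    have hw1 : A (k : F) (𝒹 1 w) = defect hF hs (k : F) 0 (A (al m (k : F)) c) :=
      (eq_neg_of_add_eq_zero_right hk.symm).trans (neg_self hs.good₁.two _)
    refine ⟨w, hw, p1.symm, p0.symm, hw1, fun t => ?_⟩
    have ht := ha ((k : F) * t)
    rw [mul_div_cancel_left₀ _ k.ne_zero, scal_one, huw, mul_comm (k : F) t, scal_mul, hw1] at ht
    rw [ht, mul_comm (k : F) t]
  -- the two points
  have hpsi : ∀ (k : Fˣ) (x y : F) (c : V₂) (w : V₁), c ∈ fixU (m := m) hF → ¬ (x = 0 ∧ y = 0) →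
      al m (k : F) = fO m x y → HS hF k • lift hF hs c = lift hF hs (A (al m (k : F)) c) + i w →
      𝒹 3 w = 0 → 𝒹 2 w = 0 →
      nOne hF (w₀ • TS hF x y • w₀ • lift hF hs c) = lift hF hs (A (al m (k : F)) c) +
        i (defect hF hs (y * (fO m x y)⁻¹) 0 (A (al m (k : F)) c) +
          defect hF hs ((y + th m x * x) / pw m (k : F)) 0 (A (al m (k : F)) c) + 𝒹 0 w +
          A ((y + th m x * x) / pw m (k : F)) (𝒹 1 w)) := by
    intro k x y c w hc hxy hk hw hw3 hw2
    obtain ⟨a'', b'', k', e, hk', ha''⟩ := bruhat hm hF hxy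
    obtain rfl : k' = k := Units.ext (al_injective hF (hk'.trans hk.symm))
    obtain rfl : a'' = (y + th m x * x) / pw m (k' : F) :=
      (eq_div_iff (pow_ne_zero _ k'.ne_zero)).2 ha''
    set a'' := (y + th m x * x) / pw m (k' : F)
    set c' := A (al m (k' : F)) c
    have hc' : c' ∈ fixU (m := m) hF := scal_mem hF hc _
    rw [← mul_smul, ← mul_smul, e]
    simp only [mul_smul]
    rw [hw, smul_add, TS_split hF a'' b'', mul_smul, TS_zero_lift hm hF hs b'' hc', TS_lift hF hs a'' 0 hc',
      add_assoc, ← TS_split, ← hs.imap, ← map_add, smul_add, smul_add, map_add,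
      nOne_TS_W hm hF hs _ _ hc', nOne_TS_i hm hF hs, add_assoc, ← map_add]
    congr 2
    obtain ⟨t3, t2, t1, t0⟩ := crd_TS hm hF hπ a'' b'' w
    rw [hw3, hw2, scal_apply_zero, scal_apply_zero, add_zero, add_zero] at t0
    rw [map_add, t0, (crd_fixU hm hF hπ (translation_mem hm hF hs a'' hc')).2.2.2]
    abel
  have hid : ∀ y c, c ∈ fixU (m := m) hF → A (fO m (1 : F) y) (defect hF hs (fO m (1 : F) y)⁻¹ 0 c) =
      defect hF hs (fO m (1 : F) y)⁻¹ 0 (A (fO m (1 : F) y) c) := by
    intro y c hc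
    -- the difference does not depend on the point
    have hconst : ∀ y, nOne hF (w₀ • TS hF (1 : F) y • w₀ • lift hF hs c) +
        nOne hF (w₀ • TS hF (1 : F) (y + 1) • w₀ • lift hF hs c) =
        nOne hF (w₀ • ((z₁ • w₀ • lift hF hs c + w₀ • lift hF hs c) + lift hF hs c)) := by
      intro y
      rw [← map_add, ← smul_add]
      congr 2
      have e1 : TS hF (1 : F) (y + 1) = (TS hF 1 y * z₁ : Cfsg.Sz F m) := by
        rw [TS_mul, mul_zero, add_zero, add_zero]
      have e2 : TS hF (1 : F) y = (TS hF 0 y * u₁ : Cfsg.Sz F m) := by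
        rw [TS_mul, th_zero hS, zero_mul, add_zero, add_zero, zero_add]
      rw [e1, mul_smul, ← smul_add, add_comm (w₀ • lift hF hs c), e2, mul_smul]
      set Y := z₁ • w₀ • lift hF hs c + w₀ • lift hF hs c with hY
      have hu : u₁ • Y = Y + lift hF hs c := by
        have h := (nOne_delta hF (w₀ • lift hF hs c)).symm.trans (nOne_W_lift hm hF hs c)
        rw [← hY] at h
        rw [← h, show ∀ p q : V, q + (p + q) = p + (q + q) from fun p q => by abel, hs.two, add_zero]
      have hy : TS hF 0 y • Y = Y := by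
        refine (eq_neg_of_add_eq_zero_left ?_).trans (neg_self hs.two _)
        rw [hY, ← i_double hm hF hs, double_zero hm hF hs _ _ hc, map_zero]
      rw [hu, smul_add, hy, TS_zero_lift hm hF hs y hc]
    have hval : ∀ y, nOne hF (w₀ • TS hF (1 : F) y • w₀ • lift hF hs c) +
        nOne hF (w₀ • TS hF (1 : F) (y + 1) • w₀ • lift hF hs c) =
        i (defect hF hs (fO m (1 : F) y)⁻¹ 0 (A (fO m (1 : F) y) c) +
          A (fO m (1 : F) y) (defect hF hs (fO m (1 : F) y)⁻¹ 0 c)) := by
      intro y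
      have hf0 : fO m (1 : F) y ≠ 0 := fO_ne_zero hS (by simp)
      have hfy : fO m (1 : F) (y + 1) = fO m (1 : F) y := by
        simp only [fO, th_add hS, th_one hS]
        linear_combination two_eq_zero hS
      set k := Units.mk0 (kOf hF (fO m (1 : F) y)) (kOf_ne (m := m) hF hf0)
      have hk : al m (k : F) = fO m (1 : F) y := al_kOf hF _
      obtain ⟨w, hw, hw3, hw2, hw1, ht⟩ := hcov k c hc
      have hx := scal_mem hF hc (fO m (1 : F) y)
      rw [hpsi k 1 y c w hc (by simp) hk hw hw3 hw2,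
        hpsi k 1 (y + 1) c w hc (by simp) (hk.trans hfy.symm) hw hw3 hw2, hfy]
      rw [show ∀ (l : V) (p q : V₁), (l + i p) + (l + i q) = i (p + q) from fun l p q => by
        rw [map_add, show l + i p + (l + i q) = i p + i q + (l + l) by abel, hs.two, add_zero]]
      congr 1
      have hp : pw m (k : F) ≠ 0 := pow_ne_zero _ k.ne_zero
      have hkf : (pw m (k : F))⁻¹ = (k : F) * (fO m (1 : F) y)⁻¹ := by
        rw [← hk, al]; field_simp
      have ht' := ht (fO m (1 : F) y)⁻¹
      rw [hk] at ht' hw1 ⊢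
      rw [ht', ← hw1, ← scal_mul, mul_comm (fO m (1 : F) y)⁻¹, ← hkf]
      set f₀ := fO m (1 : F) y
      set c' := A f₀ c
      rw [show ∀ p q r s p' q' s' : V₁, (p + q + r + s) + (p' + q' + r + s') =
        (p + p') + (q + q') + (s + s') + (r + r) from fun p q r s p' q' s' => by abel, hs.good₁.two, add_zero,
        ← hadd _ _ _ hx, ← hadd _ _ _ hx, ← scal_add hm hF hπ (crd_mem hF hπ 1 w)]
      rw [show y * f₀⁻¹ + (y + 1) * f₀⁻¹ = f₀⁻¹ by linear_combination (y * f₀⁻¹) * two_eq_zero hS,
        show (y + th m (1 : F) * 1) / pw m (k : F) + (y + 1 + th m (1 : F) * 1) / pw m (k : F) =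
          (pw m (k : F))⁻¹ by
          rw [th_one hS, mul_one, ← add_div,
            show y + 1 + (y + 1 + 1) = 1 by linear_combination (y + 1) * two_eq_zero hS, one_div]]
      abel
    have h := (hval y).symm.trans ((hconst y).trans ((hconst 0).symm.trans (hval 0)))
    have hf1 : fO m (1 : F) 0 = 1 := by simp [fO, th_one hS, th_zero hS]
    rw [hf1, inv_one, h1 _ (scal_mem hF hc _), h1 c hc, scal_apply_zero, add_zero] at h
    exact ((eq_neg_of_add_eq_zero_left (hs.inj h)).trans (neg_self hs.good₁.two _)).symm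
  let D : F → (fixU (m := m) hF : AddSubgroup V₂) → (fixU (m := m) hF : AddSubgroup V₁) := fun s c =>
    ⟨defect hF hs s 0 c, translation_mem hm hF hs s c.2⟩
  suffices h : ∀ s c, D s c = 0 from congrArg Subtype.val (h a ⟨c, hc⟩)
  refine second_vanish hF hm D (fun s c c' => Subtype.ext (defect_add hF hs s 0 c.2 c'.2))
    (fun s t c => Subtype.ext (hadd s t _ c.2)) (fun c => Subtype.ext (h1 _ c.2))
    (fun k t ⟨c, hc⟩ => Subtype.ext ?_) fun y ⟨c, hc⟩ => Subtype.ext (hid y c hc)
  show A (al m k) (defect hF hs t 0 c) =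
    defect hF hs (k * t) 0 (A (al m k) c) + A t (defect hF hs k 0 (A (al m k) c))
  rcases eq_or_ne k 0 with rfl | hk
  · have h00 : ∀ c, c ∈ fixU (m := m) hF → defect hF hs 0 0 c = 0 := fun c hc =>
      defect_zero hm hF hs 0 hc
    rw [show al m (0 : F) = 0 by rw [al, zero_mul], zero_mul, h00 _ (scal_mem hF hc _), scal_apply_zero,
      scal_zero, add_zero]
  · obtain ⟨w, -, -, -, -, ht⟩ := hcov (Units.mk0 k hk) c hc
    exact ht t

/-- An extension of good modules is good. -/
theorem good_of_seq [Finite V] : Good (m := m) hF V := by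
  have hlift : ∀ (a b : F) (c : V₂), c ∈ fixU (m := m) hF → TS hF a b • lift hF hs c = lift hF hs c :=
    fun a b c hc => by
      rw [TS_split, mul_smul, TS_zero_lift hm hF hs b hc, TS_lift hF hs a 0 hc,
        translation_zero hm hF hs a hc, map_zero, add_zero]
  have hfix : ∀ v : V, u₁ • v = v → v ∈ fixU (m := m) hF := by
    intro v hv a b
    have hc : f v ∈ fixU (m := m) hF := hs.good₂.fix _ (by rw [← hs.fmap, hv])
    obtain ⟨r, hr, e⟩ := fixed_diff hF hs hv (u_lift hF hs (f v)) (f_lift hF hs hc).symm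
    rw [e, smul_add, hlift a b _ hc, ← hs.imap, hr a b]
  refine ⟨hs.two, hs.fpf, hfix, ?_⟩
  have hgen : ∀ (a b : F) (c : V), c ∈ fixU (m := m) hF → nOne hF (TS hF a b • w₀ • c) = c := by
    intro a b c hc
    have hfc : f c ∈ fixU (m := m) hF := fun x y => by rw [← hs.fmap, hc]
    obtain ⟨r, hr, e⟩ := fixed_diff hF hs (hc 1 0) (u_lift hF hs (f c)) (f_lift hF hs hfc).symm
    have hW : 𝒹 0 r = r := (crd_fixU hm hF (hs.good₁.top hm hF) hr).2.2.2
    rw [e, smul_add, smul_add, map_add, nOne_TS_W hm hF hs a b hfc, translation_zero hm hF hs a hfc,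
      map_zero, add_zero, nOne_TS_i hm hF hs, hW]
  intro a b v
  have hv : v ∈ (spanU (m := m) hF : AddSubgroup V) :=
    spanU_eq_top hm hF hs.two hs.fpf hfix ▸ AddSubgroup.mem_top v
  induction hv using AddSubgroup.closure_induction with
  | mem w hw =>
    rcases hw with hw | ⟨x, y, c, hc, rfl⟩
    · rw [hw a b]
    · rw [← mul_smul, TS_mul, hgen _ _ c hc, hgen x y c hc]
  | zero => rw [smul_zero]
  | add p q _ _ hp hq => rw [smul_add, map_add, map_add, hp, hq]
  | neg p _ hp => rw [smul_neg, map_neg, map_neg, hp]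

end CfsgLib.CIT.Suz
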