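import Cfsg.Agent.Lib.CIT.Suz.Base

/-!
# Modules of the Suzuki groups: the coordinate rules, and the irreducible case
-/

set_option autoImplicit false
set_option linter.unusedSectionVars false
set_option linter.style.haveILetI false

namespace CfsgLib.CIT.Suz

open CfsgLib.Lie.Suz

universe u

variable {F : Type} [Field F] [Fintype F] {m : ℕ} (hm : 1 ≤ m)
  (hF : Fintype.card F = 2 ^ (2 * m + 1))
  {V : Type u} [AddCommGroup V] [DistribMulAction (Cfsg.Sz F m) V]

local notation "u₁" => TS hF (1 : F) 0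
local notation "z₁" => TS hF (0 : F) 1
local notation "w₀" => WS (m := m) hF
local notation "A" => scal (m := m) hF

section Rules

variable {π : V →+ V} (hπ : Top (m := m) hF π)

local notation "𝒹" => crd (m := m) hF π

include hm hπ

theorem crd_TS (a b : F) (v : V) :
    𝒹 3 (TS hF a b • v) = 𝒹 3 v ∧ 𝒹 2 (TS hF a b • v) = 𝒹 2 v + A a (𝒹 3 v) ∧
    𝒹 1 (TS hF a b • v) = 𝒹 1 v + A b (𝒹 3 v) + A (th m a) (𝒹 2 v) ∧
    𝒹 0 (TS hF a b • v) = 𝒹 0 v + A (fO m a b) (𝒹 3 v) + A (b + th m a * a) (𝒹 2 v) + A a (𝒹 1 v) := by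
  have hS := isSuzField hF
  have hd := crd_of_form hm hF hπ (v := TS hF a b • v)
    (d := ![𝒹 0 v + A (fO m a b) (𝒹 3 v) + A (b + th m a * a) (𝒹 2 v) + A a (𝒹 1 v),
      𝒹 1 v + A b (𝒹 3 v) + A (th m a) (𝒹 2 v), 𝒹 2 v + A a (𝒹 3 v), 𝒹 3 v]) (by rw [hπ.inv]; rfl)
    (fun x y => by
      have hc := fun i => crd_mem hF hπ i v
      rw [← mul_smul (TS hF x y), TS_mul, form hm hF hπ, fO_mul hm hF hπ,
        show y + b + th m x * a + th m (x + a) * (x + a) =
          (y + th m x * x) + th m a * x + (b + th m a * a) by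
          rw [th_add hS]; linear_combination (th m x * a) * two_eq_zero hS]
      simp only [Matrix.cons_val_zero, Matrix.cons_val_one, Matrix.cons_val, scal_map_add,
        scal_add hm hF hπ (hc 3), scal_add hm hF hπ (hc 2), scal_add hm hF hπ (hc 1), ← scal_mul]
      rw [mul_comm x b, mul_comm x (th m a), mul_comm (y + th m x * x) a]
      abel)
  exact ⟨hd 3, hd 2, hd 1, hd 0⟩

theorem crd_fixU {c : V} (hc : c ∈ fixU (m := m) hF) :
    𝒹 3 c = 0 ∧ 𝒹 2 c = 0 ∧ 𝒹 1 c = 0 ∧ 𝒹 0 c = c := by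
  have hd := crd_of_form hm hF hπ (v := c) (d := ![c, 0, 0, 0]) (hπ.low c hc) (fun x y => by
    rw [hc, hπ.top c hc]; simp [scal_apply_zero])
  exact ⟨hd 3, hd 2, hd 1, hd 0⟩

theorem crd_W {c : V} (hc : c ∈ fixU (m := m) hF) :
    𝒹 3 (w₀ • c) = c ∧ 𝒹 2 (w₀ • c) = 0 ∧ 𝒹 1 (w₀ • c) = 0 ∧ 𝒹 0 (w₀ • c) = 0 := by
  have hd := crd_of_form hm hF hπ (v := w₀ • c) (d := ![0, 0, 0, c]) (hπ.top c hc) (fun x y => by
    rw [top_key hm hF hπ hc]; simp [scal_apply_zero])
  exact ⟨hd 3, hd 2, hd 1, hd 0⟩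

theorem top_HS (k : Fˣ) (v : V) : π (HS hF k • v) = A (al m (k : F))⁻¹ (π v) := by
  have hv : v ∈ (spanU (m := m) hF : AddSubgroup V) := hπ.span ▸ AddSubgroup.mem_top v
  induction hv using AddSubgroup.closure_induction with
  | mem w hw =>
    rcases hw with hw | ⟨a, b, c, hc, rfl⟩
    · rw [HS_smul, hπ.low _ (scal_mem hF hw _), hπ.low _ hw, scal_apply_zero]
    · rw [hπ.inv, hπ.top c hc, ← mul_smul, HS_TS, mul_smul, hπ.inv, HS_smul]
      rw [show scal hF (al m (k : F)) (w₀ • c) = w₀ • scal hF (al m (k : F))⁻¹ c by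
        rw [W_scal, inv_inv]]
      exact hπ.top _ (scal_mem hF hc _)
  | zero => rw [smul_zero, map_zero, scal_apply_zero]
  | add p q _ _ hp hq => rw [smul_add, map_add, map_add, hp, hq, scal_map_add]
  | neg p _ hp => rw [neg_self hπ.two, hp]

theorem crd_HS (k : Fˣ) (v : V) :
    𝒹 3 (HS hF k • v) = A (al m (k : F))⁻¹ (𝒹 3 v) ∧
    𝒹 2 (HS hF k • v) = A (pw m (k : F))⁻¹ (𝒹 2 v) ∧
    𝒹 1 (HS hF k • v) = A (pw m (k : F)) (𝒹 1 v) ∧
    𝒹 0 (HS hF k • v) = A (al m (k : F)) (𝒹 0 v) := by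
  have hS := isSuzField hF
  have hk := k.ne_zero
  have hth : th m (k : F) ≠ 0 := fun h => hk (th_eq_zero hS h)
  have hp : pw m (k : F) ≠ 0 := pow_ne_zero _ hk
  have hd := crd_of_form hm hF hπ (v := HS hF k • v)
    (d := ![A (al m (k : F)) (𝒹 0 v), A (pw m (k : F)) (𝒹 1 v), A (pw m (k : F))⁻¹ (𝒹 2 v),
      A (al m (k : F))⁻¹ (𝒹 3 v)]) (top_HS hm hF hπ k v) (fun x y => by
      have h := HS_TS hF (m := m) k (x / k) (y / (th m (k : F) * k))
      rw [mul_div_cancel₀ _ hk, mul_div_cancel₀ _ (mul_ne_zero hth hk)] at h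
      rw [← mul_smul (TS hF x y), ← h, mul_smul, ← mul_smul w₀, WS_HS, mul_smul, top_HS hm hF hπ,
        Units.val_inv_eq_inv_val, show (al m ((k : F)⁻¹))⁻¹ = al m (k : F) by
          rw [al, al, pw, pw, inv_pow, ← mul_inv, inv_inv],
        form hm hF hπ]
      have ef : fO m (x / k) (y / (th m (k : F) * k)) = fO m x y / al m (k : F) ^ 2 := by
        rw [al, mul_pow, pw_sq hF]
        simp only [fO, div_eq_mul_inv, mul_inv, th_mul hS, th_inv hS, th_th hS]
        field_simp
      simp only [Matrix.cons_val_zero, Matrix.cons_val_one, Matrix.cons_val, scal_map_add, ← scal_mul]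
      have e1 : al m (k : F) * (fO m x y / al m (k : F) ^ 2) = fO m x y * (al m (k : F))⁻¹ := by
        rw [al]; field_simp
      have e2 : al m (k : F) * (y / (th m (k : F) * k) + th m (x / k) * (x / k)) =
          (y + th m x * x) * (pw m (k : F))⁻¹ := by
        rw [al, div_eq_mul_inv x, th_mul hS, th_inv hS]
        have := pw_sq hF (m := m) (k : F)
        field_simp
        linear_combination (y + th m x * x) * this
      have e3 : al m (k : F) * (x / k) = x * pw m (k : F) := by rw [al]; field_simp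
      rw [ef, e1, e2, e3])
  exact ⟨hd 3, hd 2, hd 1, hd 0⟩

theorem eq_of_crd [Finite V] {v w : V} (h : ∀ i, 𝒹 i v = 𝒹 i w) : v = w :=
  sub_eq_zero.1 (crd_ext hm hF hπ fun i => by rw [map_sub, h i, sub_self])

theorem eq_fix_of_crd [Finite V] {v : V} (h3 : 𝒹 3 v = 0) (h2 : 𝒹 2 v = 0) (h1 : 𝒹 1 v = 0) :
    v ∈ fixU (m := m) hF ∧ v = 𝒹 0 v := by
  have hc := crd_mem hF hπ 0 v
  obtain ⟨c3, c2, c1, c0⟩ := crd_fixU hm hF hπ hc
  have e : v = 𝒹 0 v := eq_of_crd hm hF hπ fun i => by
    fin_cases i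
    · exact c0.symm
    · exact h1.trans c1.symm
    · exact h2.trans c2.symm
    · exact h3.trans c3.symm
  exact ⟨by rw [e]; exact hc, e⟩

end Rules

/-- The modules whose fixed points of an element of order four are fixed by all translations, the
norm of that element being invariant. -/
structure Good (V : Type u) [AddCommGroup V] [DistribMulAction (Cfsg.Sz F m) V] : Prop where
  two : ∀ v : V, v + v = 0
  fpf : FPF (m := m) hF V
  fix : ∀ v : V, u₁ • v = v → v ∈ fixU (m := m) hF
  kill : ∀ (a b : F) (v : V), nOne hF (TS hF a b • v) = nOne hF v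

include hm in
theorem Good.top [Finite V] (h : Good (m := m) hF V) : Top (m := m) hF (nOne (m := m) hF : V →+ V) where
  mem v := h.fix _ (u_smul_nOne hF v)
  inv := h.kill
  top c hc := (nOne_W hF h.fpf (hc 1 0)).trans (neg_self h.two c)
  low _ hc := nOne_fix hF h.two hc
  two := h.two
  fpf := h.fpf
  span := spanU_eq_top hm hF h.two h.fpf h.fix

include hm in
/-- A module without proper invariant subgroup is good. -/
theorem good_of_irreducible [Finite V] [Nontrivial V] (h2 : ∀ v : V, v + v = 0)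
    (hV : FPF (m := m) hF V)
    (hirr : ∀ S : AddSubgroup V, Invariant (F := F) m S → S = ⊥ ∨ S = ⊤) : Good (m := m) hF V := by
  classical
  have hS := isSuzField hF
  set J : AddSubgroup V := AddSubgroup.closure {x | ∃ (a b : F) (v : V), x = TS hF a b • v - v}
  have hJd : ∀ (a b : F) (v : V), TS hF a b • v - v ∈ J := fun a b v =>
    AddSubgroup.subset_closure ⟨a, b, v, rfl⟩
  have hJU : UInvariant (m := m) hF J := fun a b v hv => by
    simpa using J.add_mem (hJd a b v) hv
  have hJne : J ≠ ⊤ := by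
    obtain ⟨P, ⟨hPU, hPne⟩, hmax⟩ := Set.exists_max_image
      {P : AddSubgroup V | UInvariant (m := m) hF P ∧ P ≠ ⊤} (fun P => Nat.card P) (Set.toFinite _)
      ⟨⊥, fun a b v hv => by rw [AddSubgroup.mem_bot] at hv ⊢; rw [hv, smul_zero], bot_ne_top⟩
    obtain ⟨v, hv, hd⟩ := exists_fix_mod (m := m) hF h2 hPU hPne
    have hQ : UInvariant (m := m) hF (P ⊔ AddSubgroup.zmultiples v) := fun a b x hx => by
      obtain ⟨p, hp, q, hq, rfl⟩ := AddSubgroup.mem_sup.1 hx
      obtain ⟨k, rfl⟩ := AddSubgroup.mem_zmultiples_iff.1 hq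
      rw [smul_add, smul_comm _ k v, show k • (TS hF a b • v) = k • (TS hF a b • v - v) + k • v by
        rw [← smul_add, sub_add_cancel], ← add_assoc]
      exact AddSubgroup.mem_sup.2 ⟨_, P.add_mem (hPU a b p hp) (P.zsmul_mem (hd a b) k), _,
        AddSubgroup.zsmul_mem _ (AddSubgroup.mem_zmultiples v) k, rfl⟩
    have htop : P ⊔ AddSubgroup.zmultiples v = ⊤ := by
      by_contra hne
      have hle := hmax _ ⟨hQ, hne⟩
      exact hv (by
        rw [AddSubgroup.eq_of_le_of_card_ge le_sup_left hle]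
        exact AddSubgroup.mem_sup_right (AddSubgroup.mem_zmultiples v))
    intro e
    refine hPne (eq_top_iff.2 (e ▸ (AddSubgroup.closure_le _).2 ?_))
    rintro _ ⟨a, b, x, rfl⟩
    obtain ⟨p, hp, q, hq, rfl⟩ := AddSubgroup.mem_sup.1 (htop ▸ AddSubgroup.mem_top x)
    obtain ⟨k, rfl⟩ := AddSubgroup.mem_zmultiples_iff.1 hq
    rw [smul_add, smul_comm _ k v, show TS hF a b • p + k • (TS hF a b • v) - (p + k • v) =
      TS hF a b • p - p + k • (TS hF a b • v - v) by rw [smul_sub]; abel]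
    exact P.add_mem (P.sub_mem (hPU a b p hp) hp) (P.zsmul_mem (hd a b) k)
  have hJA : ∀ x : F, ∀ v ∈ J, A x v ∈ J := by
    intro x v hv
    rcases eq_or_ne x 0 with rfl | hx
    · rw [scal_zero]; exact zero_mem _
    rw [show A x v = HS hF (Units.mk0 (kOf hF x) (kOf_ne hF hx)) • v from dif_neg hx]
    induction hv using AddSubgroup.closure_induction with
    | mem w hw =>
      obtain ⟨a, b, y, rfl⟩ := hw
      rw [smul_sub, ← mul_smul, HS_TS, mul_smul]
      exact hJd _ _ _
    | zero => rw [smul_zero]; exact zero_mem _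
    | add p q _ _ hp hq => rw [smul_add]; exact add_mem hp hq
    | neg p _ hp => rw [smul_neg]; exact neg_mem hp
  have hN : ∀ v : V, nOne hF v ∈ J := fun v => by
    have e : nOne hF v = (u₁ • v - v) + (z₁ • v - v) + ((u₁ * z₁) • v - v) := by
      simp only [nOne_apply, sub_eq_plus h2]
      rw [show u₁ • v + v + (z₁ • v + v) + ((u₁ * z₁) • v + v) =
        v + u₁ • v + z₁ • v + (u₁ * z₁) • v + (v + v) by abel, h2, add_zero]
    rw [e, TS_mul]
    exact add_mem (add_mem (hJd _ _ _) (hJd _ _ _)) (hJd _ _ _)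
  set C := (fixU (m := m) hF : AddSubgroup V)
  have hCJ : C ≤ J := fun c hc => by
    have h := hN (w₀ • c)
    rwa [nOne_W hF hV (hc 1 0), neg_self h2] at h
  have hC0 : ∀ c ∈ C, w₀ • c ∈ J → c = 0 := by
    intro c hc hcJ
    let S : AddSubgroup V :=
      { carrier := {v | ∀ g : Cfsg.Sz F m, g • v ∈ J}
        zero_mem' := fun g => by rw [smul_zero]; exact zero_mem _
        add_mem' := fun hx hy g => by rw [smul_add]; exact add_mem (hx g) (hy g)
        neg_mem' := fun hx g => by rw [smul_neg]; exact neg_mem (hx g) }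
    have hSi : Invariant (F := F) m S := fun g v hv k => by rw [← mul_smul]; exact hv _
    have hSbot : S = ⊥ := (hirr S hSi).resolve_right fun e => hJne (eq_top_iff.2 fun v hv => by
      simpa using ((e ▸ AddSubgroup.mem_top v : v ∈ S) 1))
    have hcS : c ∈ S := by
      intro g
      rcases decomp hm hF g with ⟨a, b, k, rfl⟩ | ⟨x, y, a, b, k, rfl⟩
      · rw [mul_smul, HS_smul, (scal_mem hF hc _) a b]
        exact hCJ (scal_mem hF hc _)
      · rw [mul_smul, mul_smul, mul_smul, HS_smul, (scal_mem hF hc _) a b, W_scal]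
        exact hJU _ _ _ (hJA _ _ hcJ)
    rw [hSbot] at hcS
    exact hcS
  have hspan : (spanU (m := m) hF : AddSubgroup V) = ⊤ :=
    (hirr _ (spanU_invariant hm hF)).resolve_left fun e =>
      fixU_ne_bot (m := m) (V := V) hF h2 (eq_bot_iff.2 (e ▸ fixU_le_spanU hF))
  let f : C × J →+ V :=
    ((DistribMulAction.toAddMonoidHom V (w₀ : Cfsg.Sz F m)).comp C.subtype).coprod J.subtype
  have hf : Function.Bijective f := by
    refine ⟨(injective_iff_map_eq_zero f).2 fun p hp => ?_, fun v => ?_⟩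
    · have hp' : w₀ • (p.1 : V) + p.2 = 0 := hp
      have h1 : (p.1 : V) = 0 := hC0 _ p.1.2 (by
        rw [eq_neg_of_add_eq_zero_left hp']; exact neg_mem p.2.2)
      rw [h1, smul_zero, zero_add] at hp'
      exact Prod.ext (Subtype.ext h1) (Subtype.ext hp')
    · have hv : v ∈ (spanU (m := m) hF : AddSubgroup V) := hspan ▸ AddSubgroup.mem_top v
      induction hv using AddSubgroup.closure_induction with
      | mem w hw =>
        rcases hw with hw | ⟨a, b, c, hc, rfl⟩
        · exact ⟨(0, ⟨w, hCJ hw⟩), by simp [f]⟩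
        · exact ⟨(⟨c, hc⟩, ⟨_, hJd a b (w₀ • c)⟩), by simp [f]⟩
      | zero => exact ⟨0, map_zero _⟩
      | add p q _ _ hp hq =>
        obtain ⟨x, rfl⟩ := hp
        obtain ⟨y, rfl⟩ := hq
        exact ⟨x + y, map_add _ _ _⟩
      | neg p _ hp =>
        obtain ⟨x, rfl⟩ := hp
        exact ⟨-x, map_neg _ _⟩
  let e := AddEquiv.ofBijective f hf
  let π : V →+ V := C.subtype.comp ((AddMonoidHom.fst C J).comp e.symm.toAddMonoidHom)
  have hval : ∀ (p : C × J), π (f p) = p.1 := fun p => by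
    show ((e.symm (e p)).1 : V) = _
    rw [AddEquiv.symm_apply_apply]
  have hJπ : ∀ j ∈ J, π j = 0 := fun j hj => by
    have := hval (0, ⟨j, hj⟩)
    simpa [f] using this
  have hπ : Top (m := m) hF π :=
    { mem := fun v => ((e.symm v).1).2
      inv := fun a b v => by
        rw [← sub_eq_zero, ← map_sub]; exact hJπ _ (hJd a b v)
      top := fun c hc => by simpa [f] using hval (⟨c, hc⟩, 0)
      low := fun c hc => hJπ c (hCJ hc)
      two := h2
      fpf := hV
      span := hspan }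
  have hfix : ∀ v : V, u₁ • v = v → v ∈ fixU (m := m) hF := by
    intro v hv
    obtain ⟨-, e2, e1, e0⟩ := crd_TS hm hF hπ 1 0 v
    rw [hv] at e2 e1 e0
    have h3 : crd hF π 3 v = 0 := by rwa [left_eq_add, scal_one] at e2
    rw [h3, scal_apply_zero, add_zero, th_one hS, scal_one, left_eq_add] at e1
    rw [h3, scal_apply_zero, add_zero, e1, scal_apply_zero, add_zero, scal_one, left_eq_add] at e0
    exact (eq_fix_of_crd hm hF hπ h3 e1 e0).1
  have hN1 : ∀ v : V, nOne hF v = π v := by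
    intro v
    obtain ⟨a3, a2, a1, a0⟩ := crd_TS hm hF hπ 1 0 v
    obtain ⟨b3, b2, b1, b0⟩ := crd_TS hm hF hπ 0 1 v
    obtain ⟨c3, c2, c1, c0⟩ := crd_TS hm hF hπ 1 1 v
    obtain ⟨-, -, -, p0⟩ := crd_fixU hm hF hπ (hπ.mem v)
    obtain ⟨hNfix, hNe⟩ := eq_fix_of_crd hm hF hπ (v := nOne hF v)
      (by
        rw [nOne_apply, TS_mul]
        simp only [add_zero, mul_zero, th_one hS, map_add, a3, b3, c3, zero_add]
        rw [h2, zero_add, h2])
      (by
        rw [nOne_apply, TS_mul]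
        simp only [add_zero, mul_zero, th_one hS, map_add, a2, b2, c2, zero_add, scal_zero, scal_one]
        rw [show ∀ p q : V, p + (p + q) + p + (p + q) = (p + p) + (p + p) + (q + q) from fun p q => by abel]
        simp [h2])
      (by
        rw [nOne_apply, TS_mul]
        simp only [add_zero, mul_zero, th_one hS, th_zero hS, map_add, a1, b1, c1, zero_add, scal_zero,
          scal_one]
        rw [show ∀ p q r : V, p + (p + r) + (p + q) + (p + q + r) =
          (p + p) + (p + p) + (q + q) + (r + r) from fun p q r => by abel]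
        simp [h2])
    rw [hNe, nOne_apply, TS_mul]
    simp only [add_zero, mul_zero, th_one hS, th_zero hS, map_add, a0, b0, c0, zero_add, scal_zero,
      scal_one, fO, one_pow, mul_one, zero_mul, add_self hS]
    rw [show ∀ p q r s : V, p + (p + q + r + s) + (p + q + r) + (p + q + s) =
      q + (p + p) + (p + p) + (q + q) + (r + r) + (s + s) from fun p q r s => by abel]
    simp only [h2, add_zero]
    rfl
  exact ⟨h2, hV, hfix, fun a b v => by rw [hN1, hN1, hπ.inv]⟩

end CfsgLib.CIT.Suz
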