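import Cfsg.Agent.Lib.Lie.Suz.Group
import Cfsg.Agent.Lib.Lie.Suz.Aut

/-!
# Identities in the Suzuki groups for the study of their fixed point free modules
-/

set_option autoImplicit false
set_option linter.unusedSectionVars false

namespace CfsgLib.CIT.Suz

open CfsgLib.Lie.Suz

variable {F : Type} [Field F] [Fintype F] {m : ℕ}

/-- `x ↦ x ^ 2^m`, inverse to the Suzuki automorphism -/
def pw (m : ℕ) (x : F) : F := x ^ 2 ^ m

/-- the scalar by which a torus element acts on the fixed points of the translations -/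
def al (m : ℕ) (x : F) : F := x * pw m x

variable (hm : 1 ≤ m) (hF : Fintype.card F = 2 ^ (2 * m + 1))

include hF

theorem pw_add (x y : F) : pw m (x + y) = pw m x + pw m y := by
  haveI := (isSuzField hF).1
  exact add_pow_char_pow x y 2 m

omit hF in
theorem pw_zero : pw m (0 : F) = 0 := zero_pow (by positivity)

omit hF in
theorem pw_mul (x y : F) : pw m (x * y) = pw m x * pw m y := mul_pow x y _

theorem pw_th (x : F) : pw m (th m x) = x := by
  rw [pw, th, ← pow_mul, ← pow_add, show m + 1 + m = 2 * m + 1 by omega]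
  exact (isSuzField hF).2 x

theorem th_pw (x : F) : th m (pw m x) = x := by
  rw [pw, th, ← pow_mul, ← pow_add, show m + (m + 1) = 2 * m + 1 by omega]
  exact (isSuzField hF).2 x

theorem pw_sq (x : F) : pw m x ^ 2 = th m x := by rw [pw, th, ← pow_mul, ← pow_succ]

theorem pw_injective : Function.Injective (pw m : F → F) := fun x y h => by
  rw [← th_pw hF x, ← th_pw hF y, h]

theorem al_injective : Function.Injective (al m : F → F) := by
  have hS := isSuzField hF
  intro x y h
  have h2 : th m x * x ^ 2 = th m y * y ^ 2 := by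
    rw [← pw_sq hF, ← pw_sq hF, ← mul_pow, ← mul_pow, mul_comm, show x * pw m x = al m x from rfl, h, al,
      mul_comm]
  rcases eq_or_ne y 0 with rfl | hy
  · rcases eq_or_ne x 0 with hx | hx
    · exact hx
    · rw [th_zero hS, zero_mul] at h2
      exact absurd (th_eq_zero hS ((mul_eq_zero.1 h2).resolve_right (pow_ne_zero 2 hx))) hx
  have hu : th m (x / y) * (x / y) ^ 2 = 1 := by
    rw [div_eq_mul_inv, th_mul hS, th_inv hS, mul_pow, inv_pow, mul_mul_mul_comm, h2]
    have h1 : th m y ≠ 0 := fun h => hy (th_eq_zero hS h)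
    field_simp
  have h3 := congrArg (th m) hu
  rw [th_mul hS, th_pow hS, th_th hS, th_one hS] at h3
  have hxy : (x / y) ^ 2 = 1 := by
    generalize x / y = u at hu h3 ⊢
    have h0 : th m u ≠ 0 := fun e => by rw [e, zero_mul] at hu; exact zero_ne_one hu
    have h1 : th m u * th m u = th m u * 1 := by
      linear_combination (th m u) * h3 - (th m u ^ 2) * hu
    rw [mul_left_cancel₀ h0 h1, one_mul] at hu
    exact hu
  rw [← one_pow 2] at hxy
  exact (div_eq_one_iff_eq hy).1 (sq_injective hS hxy)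

/-- the inverse of `al` -/
noncomputable def kOf : F → F := (Equiv.ofBijective _ (Finite.injective_iff_bijective.1 (al_injective (m := m) hF))).symm

theorem al_kOf (x : F) : al m (kOf hF x) = x :=
  (Equiv.ofBijective _ (Finite.injective_iff_bijective.1 (al_injective (m := m) hF))).apply_symm_apply x

theorem kOf_al (x : F) : kOf hF (al m x) = x :=
  al_injective hF (al_kOf hF _)

theorem kOf_ne {x : F} (hx : x ≠ 0) : kOf hF x ≠ 0 := fun h => hx (by
  rw [← al_kOf hF x, h, al, zero_mul])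

/-! ### group identities -/

theorem TS_mul (a b a' b' : F) :
    TS hF a b * TS hF a' b' = TS hF (a + a') (b + b' + th m a * a') :=
  Subtype.ext (T_mul (isSuzField hF) a b a' b')

theorem TS_zero : TS hF (0 : F) 0 = (1 : Cfsg.Sz F m) := Subtype.ext T_zero

theorem TS_comm (b c d : F) : TS hF 0 b * TS hF c d = TS hF c d * TS hF 0 b := by
  have hS := isSuzField hF
  rw [TS_mul, TS_mul]
  congr 1 <;> simp [th_zero hS] <;> ring

theorem TS_split (a b : F) : TS hF a b = TS hF a 0 * TS hF 0 b := by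
  rw [TS_mul]; congr 1 <;> simp

theorem WS_mul_self : WS hF * WS hF = (1 : Cfsg.Sz F m) := Subtype.ext W_sq

theorem HS_mul (k l : Fˣ) : HS hF (k * l) = (HS hF k * HS hF l : Cfsg.Sz F m) := Subtype.ext (H_mul k l)

theorem HS_one : HS hF 1 = (1 : Cfsg.Sz F m) := Subtype.ext H_one

theorem WS_HS (k : Fˣ) : WS hF * HS hF k = (HS hF k⁻¹ * WS hF : Cfsg.Sz F m) := by
  have h : WS hF * HS hF k * WS hF = (HS hF k⁻¹ : Cfsg.Sz F m) := Subtype.ext (WHW k)
  rw [← h, mul_assoc, WS_mul_self, mul_one]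

theorem HS_TS (k : Fˣ) (a b : F) :
    HS hF k * TS hF a b = TS hF ((k : F) * a) (th m (k : F) * k * b) * HS hF k := by
  rw [← H_conj_T hF k a b, inv_mul_cancel_right]

/-- an element of order five -/
noncomputable def gFive : Cfsg.Sz F m := WS hF * TS hF 0 1

theorem gFive_rel : gFive (m := m) hF ^ 5 = 1 ∧ gFive (m := m) hF ≠ 1 ∧
    TS hF 1 0 * gFive hF = gFive hF ^ 2 * TS hF 1 0 := by
  have hS := isSuzField hF
  haveI : CharP F 2 := hS.1
  let φ : ZMod 2 →+* F := ZMod.castHom dvd_rfl F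
  let T0 : Matrix (Fin 4) (Fin 4) (ZMod 2) := !![1, 0, 1, 1; 0, 1, 0, 1; 0, 0, 1, 0; 0, 0, 0, 1]
  let T1 : Matrix (Fin 4) (Fin 4) (ZMod 2) := !![1, 1, 1, 1; 0, 1, 1, 0; 0, 0, 1, 1; 0, 0, 0, 1]
  let W0 : Matrix (Fin 4) (Fin 4) (ZMod 2) := !![0, 0, 0, 1; 0, 0, 1, 0; 0, 1, 0, 0; 1, 0, 0, 0]
  have hθ : th m (1 : F) = 1 := th_one hS
  have hθ0 : th m (0 : F) = 0 := th_zero hS
  let M : Cfsg.Sz F m → Matrix (Fin 4) (Fin 4) F := fun w => ((w : Matrix.SpecialLinearGroup (Fin 4) F) : _)
  have hval : Function.Injective M := fun a b e => Subtype.ext (Subtype.ext e)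
  have hmul : ∀ a b, M (a * b) = M a * M b := fun a b => rfl
  have h0 : M (TS hF 0 1) = φ.mapMatrix T0 := by
    show Tm m (0 : F) 1 = _
    ext i j; fin_cases i <;> fin_cases j <;> simp [Tm, fO, hθ, hθ0, T0, φ]
  have h1 : M (TS hF 1 0) = φ.mapMatrix T1 := by
    show Tm m (1 : F) 0 = _
    ext i j; fin_cases i <;> fin_cases j <;> simp [Tm, fO, hθ, hθ0, T1, φ]
  have hy : M (gFive hF) = φ.mapMatrix (W0 * T0) := by
    rw [gFive, hmul, map_mul, ← h0]
    congr 1
    show (Wm : Matrix (Fin 4) (Fin 4) F) = _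
    ext i j; fin_cases i <;> fin_cases j <;> simp [Wm, W0, φ]
  refine ⟨hval ?_, fun e => ?_, hval ?_⟩
  · have hp : ∀ n, M (gFive hF ^ n) = φ.mapMatrix ((W0 * T0) ^ n) := by
      intro n
      induction n with
      | zero => rw [pow_zero, pow_zero, map_one]; rfl
      | succ n ih => rw [pow_succ, pow_succ, hmul, ih, hy, map_mul φ.mapMatrix (_ ^ n)]
    rw [hp, show (W0 * T0) ^ 5 = 1 by decide, map_one]
    rfl
  · have h := congrArg M e
    rw [hy, show M 1 = φ.mapMatrix 1 by rw [map_one]; rfl] at h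
    exact absurd (Matrix.map_injective φ.injective h) (by decide)
  · rw [hmul, hmul, pow_two, hmul, hy, h1, ← map_mul φ.mapMatrix, ← map_mul φ.mapMatrix, ← map_mul φ.mapMatrix]
    exact congrArg φ.mapMatrix (by decide)

include hm in
/-- the Bruhat decomposition of `W u W` -/
theorem bruhat {a b : F} (h : ¬ (a = 0 ∧ b = 0)) :
    ∃ (a'' b'' : F) (k : Fˣ),
      WS hF * TS hF a b * WS hF =
        TS hF (b * (fO m a b)⁻¹) (a * (fO m a b)⁻¹) * WS hF * (TS hF a'' b'' * HS hF k) ∧
      al m (k : F) = fO m a b ∧ a'' * pw m (k : F) = b + th m a * a := by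
  have hS := isSuzField hF
  set g : Cfsg.Sz F m := WS hF * TS hF a b * WS hF with hg
  set t := TS hF (b * (fO m a b)⁻¹) (a * (fO m a b)⁻¹) * WS hF with ht
  have hst : t⁻¹ * g ∈ MulAction.stabilizer (Cfsg.Sz F m) (Cfsg.suzukiPointInfinity F) := by
    rw [MulAction.mem_stabilizer_iff, mul_smul, inv_smul_eq_iff]
    show (W * T m a b * W : Matrix.SpecialLinearGroup (Fin 4) F) • Cfsg.suzukiPointInfinity F =
      (T m _ _ * W : Matrix.SpecialLinearGroup (Fin 4) F) • Cfsg.suzukiPointInfinity F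
    rw [mul_smul, mul_smul, mul_smul, W_inf, T_zero_pt hS, W_pt hS h, T_zero_pt hS]
  obtain ⟨a'', b'', k, e⟩ := (mem_stab_inf hm hF).1 hst
  have e' : g = t * (TS hF a'' b'' * HS hF k) := by rw [← e, mul_inv_cancel_left]
  have hM : (Wm : Matrix (Fin 4) (Fin 4) F) * Tm m a b * Wm =
      Tm m (b * (fO m a b)⁻¹) (a * (fO m a b)⁻¹) * Wm * (Tm m a'' b'' * Matrix.diagonal (hd m k)) :=
    congrArg (fun w : Cfsg.Sz F m =>
      ((w : Matrix.SpecialLinearGroup (Fin 4) F) : Matrix (Fin 4) (Fin 4) F)) e'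
  refine ⟨a'', b'', k, e', ?_, ?_⟩
  · have h3 := congrFun (congrFun hM 3) 0
    simp [Wm, Tm, hd, Matrix.mul_apply, Fin.sum_univ_four, Matrix.vecMul_diagonal] at h3
    rw [h3, al, pw, pow_succ']
  · have h3 := congrFun (congrFun hM 3) 1
    simp [Wm, Tm, hd, Matrix.mul_apply, Fin.sum_univ_four, Matrix.vecMul_diagonal] at h3
    rw [h3, pw]

end CfsgLib.CIT.Suz
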