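import Cfsg.Agent.Lib.CIT.Suz.Extension

/-!
# Fixed point free modules of the Suzuki groups

Such a module of exponent two is good, an invariant pairing between two of them into a third vanishes,
and there is none of exponent four.
-/

set_option autoImplicit false
set_option linter.unusedSectionVars false
set_option linter.style.haveILetI false
set_option maxHeartbeats 800000

namespace CfsgLib.CIT.Suz

open CfsgLib.Lie.Suz

universe u

variable {F : Type} [Field F] [Fintype F] {m : ℕ} (hm : 1 ≤ m)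
  (hF : Fintype.card F = 2 ^ (2 * m + 1))
  {V V' W : Type u} [AddCommGroup V] [DistribMulAction (Cfsg.Sz F m) V]
  [AddCommGroup V'] [DistribMulAction (Cfsg.Sz F m) V']
  [AddCommGroup W] [DistribMulAction (Cfsg.Sz F m) W]

local notation "u₁" => TS hF (1 : F) 0
local notation "z₁" => TS hF (0 : F) 1
local notation "w₀" => WS (m := m) hF
local notation "A" => scal (m := m) hF

/-- The action on an invariant subgroup. -/
@[reducible] def subAction (S : AddSubgroup V) (hS : Invariant (F := F) m S) :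
    DistribMulAction (Cfsg.Sz F m) S where
  smul g x := ⟨g • (x : V), hS g _ x.2⟩
  one_smul x := Subtype.ext (one_smul _ _)
  mul_smul g h x := Subtype.ext (mul_smul _ _ _)
  smul_zero g := Subtype.ext (smul_zero _)
  smul_add g x y := Subtype.ext (smul_add _ _ _)

/-- The action on the quotient by an invariant subgroup. -/
@[reducible] def quotAction (S : AddSubgroup V) (hS : Invariant (F := F) m S) :
    DistribMulAction (Cfsg.Sz F m) (V ⧸ S) where
  smul g := QuotientAddGroup.map S S (DistribSMul.toAddMonoidHom V g) (fun _ hv => hS g _ hv)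
  one_smul q := by
    induction q using QuotientAddGroup.induction_on
    exact congrArg QuotientAddGroup.mk (one_smul _ _)
  mul_smul g h q := by
    induction q using QuotientAddGroup.induction_on
    exact congrArg QuotientAddGroup.mk (mul_smul _ _ _)
  smul_zero g := (QuotientAddGroup.map S S (DistribSMul.toAddMonoidHom V g) _).map_zero
  smul_add g x y := (QuotientAddGroup.map S S (DistribSMul.toAddMonoidHom V g) _).map_add x y

theorem fpf_mod (h2 : ∀ v : V, v + v = 0) (hV : FPF (m := m) hF V) {S : AddSubgroup V}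
    (hS : Invariant (F := F) m S) {v : V} (h : gFive (m := m) hF • v - v ∈ S) : v ∈ S := by
  set g := gFive (m := m) hF
  have hk : ∀ k : ℕ, g ^ k • v - v ∈ S := by
    intro k
    induction k with
    | zero => rw [pow_zero, one_smul, sub_self]; exact zero_mem _
    | succ k ih =>
      have h1 := S.add_mem (hS g _ ih) h
      rwa [smul_sub, sub_add_sub_cancel, ← mul_smul, ← pow_succ'] at h1
  have hsum : v + g ^ 1 • v + g ^ 2 • v + g ^ 3 • v + g ^ 4 • v = 0 := by
    refine hV _ ?_
    show g • _ = _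
    simp only [smul_add, ← mul_smul, ← pow_succ']
    rw [show g ^ (4 + 1) = 1 from (gFive_rel hF).1, one_smul, show g • v = g ^ 1 • v by rw [pow_one]]
    abel
  have h4 := S.add_mem (S.add_mem (S.add_mem (hk 1) (hk 2)) (hk 3)) (hk 4)
  rw [show g ^ 1 • v - v + (g ^ 2 • v - v) + (g ^ 3 • v - v) + (g ^ 4 • v - v) =
    (v + g ^ 1 • v + g ^ 2 • v + g ^ 3 • v + g ^ 4 • v) - (v + ((v + v) + (v + v))) by abel, hsum, h2,
    add_zero, zero_sub] at h4
  exact neg_mem_iff.1 h4

include hm in
/-- Every fixed point free module of exponent two is good. -/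
theorem good_of_fpf : ∀ (n : ℕ) (V : Type u) [AddCommGroup V] [DistribMulAction (Cfsg.Sz F m) V] [Finite V],
    Nat.card V = n → (∀ v : V, v + v = 0) → FPF (m := m) hF V → Good (m := m) hF V := by
  intro n
  induction n using Nat.strong_induction_on with
  | _ n ih =>
  intro V _ _ _ hn h2 hV
  rcases subsingleton_or_nontrivial V with hs | hs
  · exact ⟨h2, hV, fun v _ a b => Subsingleton.elim _ _, fun a b v => Subsingleton.elim _ _⟩
  by_cases hirr : ∀ S : AddSubgroup V, Invariant (F := F) m S → S = ⊥ ∨ S = ⊤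
  · exact good_of_irreducible hm hF h2 hV hirr
  push Not at hirr
  obtain ⟨S, hS, hS0, hS1⟩ := hirr
  letI := subAction S hS
  letI := quotAction S hS
  have hcard : Nat.card V = Nat.card (V ⧸ S) * Nat.card S := AddSubgroup.card_eq_card_quotient_mul_card_addSubgroup S
  have hSpos : 1 < Nat.card S := (AddSubgroup.one_lt_card_iff_ne_bot S).2 hS0
  have hQpos : 1 < Nat.card (V ⧸ S) := by
    rw [← AddSubgroup.index_eq_card]
    have h1 : S.index ≠ 1 := fun e => hS1 (AddSubgroup.index_eq_one.1 e)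
    have h0 : S.index ≠ 0 := S.index_ne_zero_of_finite
    omega
  have g₁ : Good (m := m) hF S := ih _ (by
      rw [← hn, hcard]; exact lt_mul_of_one_lt_left Nat.card_pos hQpos) S rfl
    (fun v => Subtype.ext (h2 v)) fun v hv => Subtype.ext (hV v (congrArg Subtype.val hv))
  have g₂ : Good (m := m) hF (V ⧸ S) := ih _ (by
      rw [← hn, hcard]; exact lt_mul_of_one_lt_right Nat.card_pos hSpos) (V ⧸ S) rfl
    (fun q => by
      induction q using QuotientAddGroup.induction_on with
      | H x => rw [← QuotientAddGroup.mk_add, h2]; rfl) fun q hq => by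
      induction q using QuotientAddGroup.induction_on with
      | H x => exact (QuotientAddGroup.eq_zero_iff x).2 (fpf_mod hF h2 hV hS ((QuotientAddGroup.eq_iff_sub_mem).1 hq))
  exact good_of_seq hm hF (i := S.subtype) (f := QuotientAddGroup.mk' S)
    ⟨fun g x => rfl, fun g x => rfl, S.subtype_injective, QuotientAddGroup.mk'_surjective S,
      fun v => ⟨fun h => ⟨⟨v, (QuotientAddGroup.eq_zero_iff v).1 h⟩, rfl⟩, fun ⟨x, hx⟩ =>
        (QuotientAddGroup.eq_zero_iff v).2 (hx ▸ x.2)⟩, h2, hV, g₁, g₂⟩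

/-! ### pairings -/

variable [Finite V] [Finite V'] [Finite W]

include hm in
theorem crd_u (hW : Good (m := m) hF W) (a : F) {Φ : W} (h3 : nOne hF Φ = 0) :
    crd (m := m) hF (nOne (m := m) hF) 1 (TS hF a 0 • Φ + Φ) =
      A (th m a) (crd (m := m) hF (nOne (m := m) hF) 2 Φ) := by
  obtain ⟨-, -, a1, -⟩ := crd_TS hm hF (hW.top hm hF) a 0 Φ
  rw [crd_three hF Φ, h3, scal_apply_zero, add_zero] at a1
  rw [map_add, a1, show ∀ p q : W, p + q + p = q + (p + p) from fun p q => by abel, hW.two, add_zero]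

include hm in
/-- The image of the top of a pairing with a fixed point is fixed by the central involution. -/
theorem pairing_half (hV : Good (m := m) hF V) (hV' : Good (m := m) hF V') (hW : Good (m := m) hF W)
    (B : V →+ V' →+ W) (hB : ∀ (g : Cfsg.Sz F m) x y, B (g • x) (g • y) = g • B x y)
    {c : V} (hc : c ∈ fixU (m := m) hF) {y : V'} (hy : y ∈ fixU (m := m) hF) :
    z₁ • B c (w₀ • y) = B c (w₀ • y) ∧ B c y = 0 := by
  have hS := isSuzField hF
  have hπ := hW.top hm hF
  have hπ' := hV'.top hm hF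
  have h2 := hW.two
  have hT : ∀ {c : V}, c ∈ fixU (m := m) hF → ∀ (a b : F) (v : V'),
      B c (TS hF a b • v) = TS hF a b • B c v := fun {c} hc a b v => by rw [← hB, hc a b]
  -- scalars in the second variable
  have hlin : ∀ {c : V}, c ∈ fixU (m := m) hF → ∀ {y : V'}, y ∈ fixU (m := m) hF → ∀ a : F,
      B c (A a y) = A a (nOne hF (B c (w₀ • y))) := by
    intro c hc y hy a
    have key : ∀ {M : Type u} [AddCommGroup M] [DistribMulAction (Cfsg.Sz F m) M] [Finite M],
        Good (m := m) hF M → ∀ v : M, TS hF a 0 • (z₁ • v + v) + (z₁ • v + v) = A a (nOne hF v) := by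
      intro M _ _ _ hM v
      have hπM := hM.top hm hF
      obtain ⟨a3, a2, a1, a0⟩ := crd_TS hm hF hπM 0 1 v
      rw [th_zero hS, scal_zero, add_zero, scal_one] at a1
      rw [scal_zero, add_zero] at a2
      set w := z₁ • v + v
      have w3 : crd (m := m) hF (nOne (m := m) hF) 3 w = 0 := by rw [map_add, a3, hM.two]
      have w2 : crd (m := m) hF (nOne (m := m) hF) 2 w = 0 := by rw [map_add, a2, hM.two]
      have w1 : crd (m := m) hF (nOne (m := m) hF) 1 w = nOne hF v := by
        rw [map_add, a1, show ∀ p q : M, p + q + p = q + (p + p) from fun p q => by abel, hM.two, add_zero]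
        rfl
      obtain ⟨b3, b2, b1, b0⟩ := crd_TS hm hF hπM a 0 w
      rw [w3, w2, scal_apply_zero, scal_apply_zero, add_zero, add_zero, w1] at b0
      rw [(eq_fix_of_crd hm hF hπM (v := TS hF a 0 • w + w) (by rw [map_add, b3, hM.two])
        (by rw [map_add, b2, w3, scal_apply_zero, add_zero, hM.two])
        (by rw [map_add, b1, w3, w2, scal_apply_zero, scal_apply_zero, add_zero, add_zero, hM.two])).2,
        map_add, b0, show ∀ p q : M, p + q + p = q + (p + p) from fun p q => by abel, hM.two, add_zero]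
    rw [← key hW, ← hT hc 0 1, ← map_add, ← hT hc a 0, ← map_add, key hV', hπ'.top y hy]
  have hzero : ∀ {c : V}, c ∈ fixU (m := m) hF → ∀ {y : V'}, y ∈ fixU (m := m) hF → B c y = 0 := by
    intro c hc y hy
    have hl : ∀ {c : V}, c ∈ fixU (m := m) hF → ∀ {y : V'}, y ∈ fixU (m := m) hF → ∀ a : F,
        B c (A a y) = A a (B c y) := fun {c} hc {y} hy a => by
      have h1 := hlin hc hy 1
      rw [scal_one, scal_one] at h1
      rw [hlin hc hy a, h1]
    obtain ⟨x, hx0, hx1⟩ := exists_not_zero_one hF hm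
    have hcan : ∀ x : F, x ≠ 0 → B (A x c) y = B c y := by
      intro x hx
      have h1 : B (A x c) (A x y) = A x (B c y) := by
        rw [scal, scal, scal, dif_neg hx, dif_neg hx, dif_neg hx, hB]
      rw [hl (scal_mem hF hc x) hy] at h1
      have h2' := congrArg (A x⁻¹) h1
      rwa [← scal_mul, ← scal_mul, inv_mul_cancel₀ hx, scal_one, scal_one] at h2'
    have hx2 : x + 1 ≠ 0 := fun e => hx1 (by rw [eq_neg_of_add_eq_zero_left e, neg_eq hS])
    have h := hcan _ hx2
    rw [scal_add hm hF (hV.top hm hF) hc, scal_one, map_add, AddMonoidHom.add_apply, hcan x hx0, h2] at h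
    exact h.symm
  refine ⟨?_, hzero hc hy⟩
  set Φ := fun y : V' => B c (w₀ • y)
  have h3 : ∀ y, y ∈ fixU (m := m) hF → nOne hF (Φ y) = 0 := fun y hy => by
    have h := hlin hc hy 1
    rw [hzero hc (scal_mem hF hy 1), scal_one] at h
    exact h.symm
  set d2 := fun y : V' => crd (m := m) hF (nOne (m := m) hF) 2 (Φ y)
  have hz : ∀ y, y ∈ fixU (m := m) hF → ∀ b : F, TS hF 0 b • Φ y + Φ y = A b (d2 y) := fun y hy b => by
    obtain ⟨a3, a2, a1, a0⟩ := crd_TS hm hF hπ 0 b (Φ y)
    rw [scal_zero, add_zero] at a2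
    rw [crd_three hF (Φ y), h3 y hy, scal_apply_zero, add_zero, th_zero hS, scal_zero, add_zero] at a1
    rw [crd_three hF (Φ y), h3 y hy, scal_apply_zero, add_zero, th_zero hS, zero_mul, add_zero, scal_zero,
      add_zero] at a0
    rw [(eq_fix_of_crd hm hF hπ (v := TS hF 0 b • Φ y + Φ y) (by rw [map_add, a3, h2])
      (by rw [map_add, a2, h2]) (by rw [map_add, a1, h2])).2, map_add, a0,
      show ∀ p q : W, p + q + p = q + (p + p) from fun p q => by abel, h2, add_zero]
  have hlin2 : ∀ y, y ∈ fixU (m := m) hF → ∀ b : F, d2 (A b y) = A b (d2 y) := by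
    intro y hy b
    have hy' := scal_mem hF hy b
    have hy'' := scal_mem hF hy (th m b + b)
    have e : TS hF 0 b • w₀ • y + w₀ • y = z₁ • w₀ • A b y + w₀ • A b y + A (th m b + b) y := by
      obtain ⟨a3, a2, a1, a0⟩ := crd_TS hm hF hπ' 0 b (w₀ • y)
      obtain ⟨b3, b2, b1, b0⟩ := crd_TS hm hF hπ' 0 1 (w₀ • A b y)
      obtain ⟨c3, c2, c1, c0⟩ := crd_fixU hm hF hπ' hy''
      obtain ⟨g3, g2, g1, g0⟩ := crd_W hm hF hπ' hy
      obtain ⟨k3, k2, k1, k0⟩ := crd_W hm hF hπ' hy'
      simp only [g3, g2, g1, g0, k3, k2, k1, k0, th_zero hS, scal_zero, scal_one, scal_apply_zero, add_zero,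
        zero_mul, zero_add, fO, mul_zero, zero_pow, ne_eq, OfNat.ofNat_ne_zero, not_false_iff, th_one hS] at a3 a2 a1 a0 b3 b2 b1 b0
      refine eq_of_crd hm hF hπ' fun j => ?_
      rw [map_add, map_add, map_add]
      fin_cases j
      · rw [show ((⟨0, by omega⟩ : Fin 4)) = 0 from rfl, a0, b0, c0, g0, k0, add_zero, add_zero,
          scal_add hm hF hπ' hy, show ∀ p q : V', q + (p + q) = p + (q + q) from fun p q => by abel, hV'.two,
          add_zero]
      · rw [show ((⟨1, by omega⟩ : Fin 4)) = 1 from rfl, a1, b1, c1, g1, k1, add_zero, add_zero]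
      · rw [show ((⟨2, by omega⟩ : Fin 4)) = 2 from rfl, a2, b2, c2, g2, k2, add_zero, add_zero]
      · rw [show ((⟨3, by omega⟩ : Fin 4)) = 3 from rfl, a3, b3, c3, g3, k3, hV'.two, hV'.two, add_zero]
    have h := congrArg (B c) e
    rw [map_add, map_add, map_add, hT hc, hT hc, hzero hc hy'', add_zero, hz y hy b, hz _ hy' 1, scal_one] at h
    exact h.symm
  have hd2 : d2 y = 0 := by
    obtain ⟨a, ha0⟩ := exists_th_ne hm hF
    have hay := scal_mem hF hy a
    have hay' := scal_mem hF hy (fO m a 0 + a)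
    have e : TS hF a 0 • w₀ • y + w₀ • y = u₁ • w₀ • A a y + w₀ • A a y + A (fO m a 0 + a) y := by
      obtain ⟨a3, a2, a1, a0⟩ := crd_TS hm hF hπ' a 0 (w₀ • y)
      obtain ⟨b3, b2, b1, b0⟩ := crd_TS hm hF hπ' 1 0 (w₀ • A a y)
      obtain ⟨c3, c2, c1, c0⟩ := crd_fixU hm hF hπ' hay'
      obtain ⟨g3, g2, g1, g0⟩ := crd_W hm hF hπ' hy
      obtain ⟨k3, k2, k1, k0⟩ := crd_W hm hF hπ' hay
      simp only [g3, g2, g1, g0, k3, k2, k1, k0, scal_zero, scal_one, scal_apply_zero, add_zero,
        zero_add] at a3 a2 a1 a0 b3 b2 b1 b0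
      rw [show fO m (1 : F) 0 = 1 by simp [fO, th_one hS, th_zero hS], scal_one] at b0
      refine eq_of_crd hm hF hπ' fun j => ?_
      rw [map_add, map_add, map_add]
      fin_cases j
      · rw [show ((⟨0, by omega⟩ : Fin 4)) = 0 from rfl, a0, b0, c0, g0, k0, add_zero, add_zero,
          scal_add hm hF hπ' hy, show ∀ p q : V', q + (p + q) = p + (q + q) from fun p q => by abel, hV'.two,
          add_zero]
      · rw [show ((⟨1, by omega⟩ : Fin 4)) = 1 from rfl, a1, b1, c1, g1, k1, add_zero, add_zero]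
      · rw [show ((⟨2, by omega⟩ : Fin 4)) = 2 from rfl, a2, b2, c2, g2, k2, add_zero, add_zero]
      · rw [show ((⟨3, by omega⟩ : Fin 4)) = 3 from rfl, a3, b3, c3, g3, k3, hV'.two, hV'.two, add_zero]
    have h := congrArg (fun v => crd (m := m) hF (nOne (m := m) hF) 1 (B c v)) e
    simp only [map_add, hT hc, hzero hc hay'] at h
    rw [← map_add (crd hF _ 1), ← map_add (crd hF _ 1), crd_u hm hF hW a (h3 y hy), map_zero, add_zero,
      crd_u hm hF hW 1 (h3 _ hay), th_one hS, scal_one] at h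
    have h' : A (th m a) (d2 y) = A a (d2 y) := h.trans (hlin2 y hy a)
    have hne : th m a + a ≠ 0 := fun h => ha0 (by rw [eq_neg_of_add_eq_zero_left h, neg_eq hS])
    have h'' : A (th m a + a) (d2 y) = 0 := by
      rw [scal_add hm hF hπ (crd_mem hF hπ 2 _), h', h2]
    have h''' := congrArg (A (th m a + a)⁻¹) h''
    rwa [← scal_mul, inv_mul_cancel₀ hne, scal_one, scal_apply_zero] at h'''
  have h := hz y hy 1
  rw [hd2, scal_apply_zero] at h
  exact (eq_neg_of_add_eq_zero_left h).trans (neg_self h2 _)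

include hm in
/-- An invariant pairing of good modules vanishes. -/
theorem pairing_zero (hV : Good (m := m) hF V) (hV' : Good (m := m) hF V') (hW : Good (m := m) hF W)
    (B : V →+ V' →+ W) (hB : ∀ (g : Cfsg.Sz F m) x y, B (g • x) (g • y) = g • B x y) : B = 0 := by
  have hstep : ∀ {c : V}, c ∈ fixU (m := m) hF → B c = 0 := by
    intro c hc
    have hW0 : ∀ {y : V'}, y ∈ fixU (m := m) hF → B c (w₀ • y) = 0 := by
      intro y hy
      have h1 := (pairing_half hm hF hV hV' hW B hB hc hy).1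
      have h2 := (pairing_half hm hF hV' hV hW B.flip (fun g x z => by
        rw [AddMonoidHom.flip_apply, AddMonoidHom.flip_apply, hB]) hy hc).1
      rw [AddMonoidHom.flip_apply] at h2
      have e : B (w₀ • c) y = w₀ • B c (w₀ • y) := by
        rw [← hB, ← mul_smul, WS_mul_self, one_smul]
      rw [e] at h2
      set Φ := B c (w₀ • y)
      refine hW.fpf Φ ?_
      set g := gFive (m := m) hF with hgdef
      have e1 : g • Φ = w₀ • Φ := by rw [hgdef, gFive, mul_smul, h1]
      have e2 : g • g • Φ = Φ := by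
        rw [e1, hgdef, gFive, mul_smul, h2, ← mul_smul, WS_mul_self, one_smul]
      have e5 : g • g • g • g • g • Φ = Φ := by
        simp only [← mul_smul]
        rw [show g * (g * (g * (g * g))) = g ^ 5 by simp only [pow_succ, pow_zero, one_mul, mul_assoc], hgdef, (gFive_rel hF).1, one_smul]
      rwa [e2, e2] at e5
    refine AddMonoidHom.ext fun v => ?_
    rw [AddMonoidHom.zero_apply]
    have hv : v ∈ (spanU (m := m) hF : AddSubgroup V') :=
      spanU_eq_top hm hF hV'.two hV'.fpf hV'.fix ▸ AddSubgroup.mem_top v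
    induction hv using AddSubgroup.closure_induction with
    | mem w hw =>
      rcases hw with hw | ⟨a, b, y, hy, rfl⟩
      · exact (pairing_half hm hF hV hV' hW B hB hc hw).2
      · rw [← hc a b, hB, hW0 hy, smul_zero]
    | zero => exact map_zero _
    | add p q _ _ hp hq => rw [map_add, hp, hq, add_zero]
    | neg p _ hp => rw [map_neg, hp, neg_zero]
  refine AddMonoidHom.ext fun x => ?_
  rw [AddMonoidHom.zero_apply]
  have hx : x ∈ (spanU (m := m) hF : AddSubgroup V) :=
    spanU_eq_top hm hF hV.two hV.fpf hV.fix ▸ AddSubgroup.mem_top x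
  induction hx using AddSubgroup.closure_induction with
  | mem w hw =>
    rcases hw with hw | ⟨a, b, c, hc, rfl⟩
    · exact hstep hw
    · refine AddMonoidHom.ext fun v => ?_
      rw [← mul_smul, ← smul_inv_smul (TS hF a b * w₀) v, hB, hstep hc]
      simp
  | zero => exact map_zero _
  | add p q _ _ hp hq => rw [map_add, hp, hq, add_zero]
  | neg p _ hp => rw [map_neg, hp, neg_zero]

/-! ### no module of exponent four -/

include hm in
/-- A fixed point free module killed by four is killed by two. -/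
theorem two_of_four {N : Type u} [AddCommGroup N] [DistribMulAction (Cfsg.Sz F m) N] [Finite N]
    (hN : FPF (m := m) hF N) (h4 : ∀ x : N, x + x + (x + x) = 0) (x : N) : x + x = 0 := by
  classical
  have hS := isSuzField hF
  let dbl : N →+ N := AddMonoidHom.id N + AddMonoidHom.id N
  set Ω := dbl.ker with hΩ
  have hΩmem : ∀ v, v ∈ Ω ↔ v + v = 0 := fun v => AddMonoidHom.mem_ker
  have hΩi : Invariant (F := F) m Ω := fun g v hv => by rw [hΩmem] at hv ⊢; rw [← smul_add, hv, smul_zero]
  letI := subAction Ω hΩi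
  have hg : Good (m := m) hF Ω := good_of_fpf hm hF _ Ω rfl (fun v => Subtype.ext ((hΩmem v).1 v.2))
    fun v hv => Subtype.ext (hN v (congrArg Subtype.val hv))
  have hπ := hg.top hm hF
  set D := dbl.range with hD
  have hDΩ : ∀ v ∈ D, v ∈ Ω := by rintro _ ⟨w, rfl⟩; exact (hΩmem _).2 (h4 w)
  have hDi : Invariant (F := F) m D := by
    rintro g _ ⟨w, rfl⟩; exact ⟨g • w, (smul_add g w w).symm⟩
  by_contra hx
  letI := subAction D hDi
  haveI : Nontrivial D := ⟨⟨⟨x + x, x, rfl⟩, 0, fun e => hx (congrArg Subtype.val e)⟩⟩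
  obtain ⟨⟨⟨c₀, hcD⟩, hc⟩, hc0⟩ := AddSubgroup.ne_bot_iff_exists_ne_zero.1 (fixU_ne_bot (m := m) (V := D) hF
    (fun v => Subtype.ext ((hΩmem v).1 (hDΩ v v.2))))
  have hc0' : c₀ ≠ 0 := fun e => hc0 (Subtype.ext (Subtype.ext e))
  -- lifts fixed by the element of order four
  have hlift : ∀ c : Ω, (c : N) ∈ D → c ∈ fixU (m := m) hF → ∃ γ : N, γ + γ = c ∧ u₁ • γ = γ := by
    intro c hcD hc
    obtain ⟨y, hy⟩ := hcD
    have hy' : y + y = c := hy
    have hu : u₁ • y - y ∈ Ω := (hΩmem _).2 (by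
      rw [show u₁ • y - y + (u₁ • y - y) = u₁ • y + u₁ • y - (y + y) by abel, ← smul_add, hy',
        show u₁ • (c : N) = c from congrArg Subtype.val (hc 1 0), sub_self])
    have h := (hΩmem _).1 (orbit_rel hF hN hΩi hu)
    refine ⟨-nOne hF (w₀ • y), ?_, by rw [smul_neg, u_smul_nOne]⟩
    rw [← hy', ← sub_eq_zero, ← neg_eq_zero, ← h]
    abel
  let δ : Cfsg.Sz F m → N → N := fun g v => g • v - v
  have hδadd : ∀ g v w, δ g (v + w) = δ g v + δ g w := fun g v w => by simp only [δ, smul_add]; abel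
  have hδsub : ∀ g v w, δ g (v - w) = δ g v - δ g w := fun g v w => by simp only [δ, smul_sub]; abel
  let T : F → F → N → N := fun b e γ => δ (TS hF 0 b) (δ (TS hF 0 e) (w₀ • γ))
  have hkill : ∀ (b e : F) (v : Ω), δ (TS hF 0 b) (δ (TS hF 0 e) (v : N)) = 0 := by
    intro b e v
    have h : TS hF 0 b • (TS hF 0 e • v + v) + (TS hF 0 e • v + v) = 0 := by
      obtain ⟨a3, a2, a1, a0⟩ := crd_TS hm hF hπ 0 e v
      rw [scal_zero, add_zero] at a2
      rw [th_zero hS, scal_zero, add_zero] at a1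
      set w := TS hF 0 e • v + v
      have w3 : crd (m := m) hF (nOne (m := m) hF) 3 w = 0 := by rw [map_add, a3, hg.two]
      have w2 : crd (m := m) hF (nOne (m := m) hF) 2 w = 0 := by rw [map_add, a2, hg.two]
      obtain ⟨b3, b2, b1, b0⟩ := crd_TS hm hF hπ 0 b w
      refine eq_of_crd hm hF hπ fun j => ?_
      rw [map_zero, map_add]
      fin_cases j
      · rw [show ((⟨0, by omega⟩ : Fin 4)) = 0 from rfl, b0, w3, w2, scal_apply_zero, scal_apply_zero, scal_zero,
          add_zero, add_zero, add_zero, hg.two]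
      · rw [show ((⟨1, by omega⟩ : Fin 4)) = 1 from rfl, b1, w3, w2, scal_apply_zero, scal_apply_zero, add_zero,
          add_zero, hg.two]
      · rw [show ((⟨2, by omega⟩ : Fin 4)) = 2 from rfl, b2, w3, scal_apply_zero, add_zero, hg.two]
      · rw [show ((⟨3, by omega⟩ : Fin 4)) = 3 from rfl, b3, hg.two]
    rw [← sub_eq_plus hg.two (TS hF 0 e • v), ← sub_eq_plus hg.two] at h
    exact congrArg Subtype.val h
  have hdouble : ∀ (b e : F) {γ : N} {c : Ω}, γ + γ = c → T b e γ ∈ Ω := fun b e γ c hγ => (hΩmem _).2 (by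
    rw [← hδadd, ← hδadd, ← smul_add, hγ]
    exact hkill b e (w₀ • c))
  have hindep : ∀ (b e : F) {γ γ' : N}, γ + γ = γ' + γ' → T b e γ = T b e γ' := fun b e γ γ' h => by
    have h' : γ - γ' ∈ Ω := (hΩmem _).2 (by
      rw [show γ - γ' + (γ - γ') = γ + γ - (γ' + γ') by abel, h, sub_self])
    rw [← sub_eq_zero, ← hδsub, ← hδsub, ← smul_sub]
    exact hkill b e (w₀ • ⟨γ - γ', h'⟩)
  have hsq : ∀ (b : F) (v : N), δ (TS hF 0 b) (δ (TS hF 0 b) v) = -δ (TS hF 0 b) (v + v) := fun b v => by
    simp only [δ, smul_sub, smul_add, ← mul_smul]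
    rw [TS_mul, th_zero hS, zero_mul, add_zero, add_zero, add_self hS, TS_zero, one_smul]
    abel
  have hcomm : ∀ (b e : F) (v : N),
      δ (TS hF 0 b) (δ (TS hF 0 e) v) = δ (TS hF 0 e) (δ (TS hF 0 b) v) := fun b e v => by
    simp only [δ, smul_sub, ← mul_smul]; rw [TS_comm]
    abel
  let ΔT : ∀ (b e : F) (γ : N) (c : Ω), γ + γ = c → Ω := fun b e γ c h => ⟨T b e γ, hdouble b e h⟩
  have hTfix : ∀ (b e : F) {γ : N} {c : Ω} (h : γ + γ = c),
      crd (m := m) hF (nOne (m := m) hF) 3 (ΔT b e γ c h) = 0 ∧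
      crd (m := m) hF (nOne (m := m) hF) 2 (ΔT b e γ c h) = 0 := by
    intro b e γ c h
    have hz : z₁ • ΔT b e γ c h + ΔT b e γ c h = 0 := by
      rw [← sub_eq_plus hg.two]
      refine Subtype.ext ?_
      show δ z₁ (T b e γ) = 0
      show δ z₁ (δ (TS hF 0 b) (δ (TS hF 0 e) (w₀ • γ))) = 0
      have h1 : δ z₁ (δ z₁ (δ (TS hF 0 e) (w₀ • γ))) = 0 := by
        rw [hsq, ← hδadd (TS hF 0 e), ← smul_add, h, neg_eq_zero]
        exact hkill 1 e (w₀ • c)
      -- an element of `Ω` fixed by the central involution is fixed by the centre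
      have h1' : (⟨δ z₁ (δ (TS hF 0 e) (w₀ • γ)), hdouble 1 e h⟩ : Ω) ∈
          {v : Ω | z₁ • v + v = 0} := by
        show z₁ • _ + _ = (0 : Ω)
        rw [← sub_eq_plus hg.two]
        exact Subtype.ext h1
      obtain ⟨a3, a2, a1, a0⟩ := crd_TS hm hF hπ 0 1 (⟨δ z₁ (δ (TS hF 0 e) (w₀ • γ)), hdouble 1 e h⟩ : Ω)
      set t : Ω := ⟨δ z₁ (δ (TS hF 0 e) (w₀ • γ)), hdouble 1 e h⟩
      have htfix : z₁ • t = t := (eq_neg_of_add_eq_zero_left h1').trans (neg_self hg.two _)
      rw [htfix, th_zero hS, scal_zero, add_zero, scal_one, left_eq_add] at a1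
      rw [htfix, a1, scal_apply_zero, add_zero, th_zero hS, zero_mul, add_zero, scal_one, scal_zero, add_zero,
        left_eq_add] at a0
      obtain ⟨b3, b2, b1, b0⟩ := crd_TS hm hF hπ 0 b t
      have htb : TS hF 0 b • t = t := eq_of_crd hm hF hπ fun j => by
        fin_cases j
        · exact b0.trans (by rw [a1, a0, scal_apply_zero, scal_apply_zero, scal_zero, add_zero, add_zero, add_zero]; rfl)
        · exact b1.trans (by rw [a1, a0, scal_apply_zero, scal_apply_zero, add_zero, add_zero]; rfl)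
        · exact b2.trans (by rw [a1, scal_apply_zero, add_zero]; rfl)
        · exact b3
      rw [hcomm 1 b]
      show TS hF 0 b • (t : N) - (t : N) = 0
      rw [sub_eq_zero]
      exact congrArg Subtype.val htb
    obtain ⟨a3, a2, a1, a0⟩ := crd_TS hm hF hπ 0 1 (ΔT b e γ c h)
    have htfix := (eq_neg_of_add_eq_zero_left hz).trans (neg_self hg.two _)
    rw [htfix, th_zero hS, scal_zero, add_zero, scal_one, left_eq_add] at a1
    rw [htfix, a1, scal_apply_zero, add_zero, th_zero hS, zero_mul, add_zero, scal_one, scal_zero, add_zero,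
      left_eq_add] at a0
    exact ⟨a1, a0⟩
  let G : ∀ (b e : F) (γ : N) (c : Ω), γ + γ = c → Ω := fun b e γ c h =>
    crd (m := m) hF (nOne (m := m) hF) 1 (ΔT b e γ c h)
  have hGadd : ∀ (b b' e : F) {γ : N} {c : Ω} (h : γ + γ = c),
      G (b + b') e γ c h = G b e γ c h + G b' e γ c h := by
    intro b b' e γ c h
    show crd hF _ 1 _ = crd hF _ 1 _ + crd hF _ 1 _
    rw [← map_add]
    congr 1
    refine Subtype.ext ?_
    obtain ⟨a3, a2⟩ := hTfix b' e h
    obtain ⟨b3, b2, b1, b0⟩ := crd_TS hm hF hπ 0 b (ΔT b' e γ c h)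
    have htb : TS hF 0 b • ΔT b' e γ c h = ΔT b' e γ c h := eq_of_crd hm hF hπ fun j => by
      fin_cases j
      · exact b0.trans (by rw [a3, a2, scal_apply_zero, scal_apply_zero, scal_zero, add_zero, add_zero, add_zero]; rfl)
      · exact b1.trans (by rw [a3, a2, scal_apply_zero, scal_apply_zero, add_zero, add_zero]; rfl)
      · exact b2.trans (by rw [a3, scal_apply_zero, add_zero]; rfl)
      · exact b3
    have htb' : TS hF 0 b • T b' e γ = T b' e γ := congrArg Subtype.val htb
    show T (b + b') e γ = T b e γ + T b' e γ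
    simp only [T, δ, show TS hF 0 (b + b') = (TS hF 0 b * TS hF 0 b' : Cfsg.Sz F m) by
      rw [TS_mul, th_zero hS, zero_mul, add_zero, add_zero], mul_smul] at htb' ⊢
    rw [← sub_eq_zero] at htb' ⊢
    rw [← htb']
    simp only [smul_sub]
    abel
  have hGsymm : ∀ (b e : F) {γ : N} {c : Ω} (h : γ + γ = c), G b e γ c h = G e b γ c h :=
    fun b e γ c h => congrArg (crd (m := m) hF (nOne (m := m) hF) 1) (Subtype.ext (hcomm b e (w₀ • γ)))
  have hGdiag : ∀ (b : F) {γ : N} {c : Ω} (h : γ + γ = c), c ∈ fixU (m := m) hF →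
      G b b γ c h = A b c := by
    intro b γ c h hc
    have e : ΔT b b γ c h = TS hF 0 b • w₀ • c + w₀ • c := by
      rw [← neg_self hg.two (TS hF 0 b • w₀ • c + w₀ • c), ← sub_eq_plus hg.two]
      refine Subtype.ext ?_
      show δ (TS hF 0 b) (δ (TS hF 0 b) (w₀ • γ)) = -(TS hF 0 b • w₀ • (c : N) - w₀ • (c : N))
      rw [hsq, ← smul_add, h]
    obtain ⟨a3, a2, a1, a0⟩ := crd_TS hm hF hπ 0 b (w₀ • c)
    obtain ⟨g3, g2, g1, g0⟩ := crd_W hm hF hπ hc
    show crd hF _ 1 _ = _
    rw [e, map_add, a1, g3, g2, g1, scal_apply_zero, add_zero, zero_add, add_zero]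
  -- the recursion
  have hG0 : ∀ (b e : F) {γ : N} {c : Ω} (h : γ + γ = c), c ∈ fixU (m := m) hF → (c : N) ∈ D →
      ∀ {γ' : N} (h' : γ' + γ' = (A e c : Ω)),
        G b e γ c h = G b 1 γ' (A e c) h' + A b (G 1 e γ c h + A e c) := by
    intro b e γ c h hc hcD γ' h'
    have hce := scal_mem hF hc e
    have hc2 := scal_mem hF hc (th m e + e)
    have hDA : ∀ x : F, ((A x c : Ω) : N) ∈ D := by
      intro x
      rcases eq_or_ne x 0 with rfl | hx
      · rw [scal_zero]; exact zero_mem D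
      · rw [scal, dif_neg hx]; exact hDi _ _ hcD
    obtain ⟨γ'', h'', hu''⟩ := hlift _ (hDA (th m e + e)) hc2
    set w : N := δ (TS hF 0 e) (w₀ • γ) - δ z₁ (w₀ • γ') - γ'' with hw
    have hw2 : w + w = 0 := by
      have e0 : w + w = δ (TS hF 0 e) (w₀ • (c : N)) - δ z₁ (w₀ • ((A e c : Ω) : N)) - ((A (th m e + e) c : Ω) : N) := by
        rw [← h, ← h', ← h'', smul_add, smul_add, hδadd, hδadd, hw]
        abel
      rw [e0]
      have e1 : (TS hF 0 e • w₀ • c + w₀ • c) + (z₁ • w₀ • A e c + w₀ • A e c) + A (th m e + e) c = 0 := by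
        obtain ⟨a3, a2, a1, a0⟩ := crd_TS hm hF hπ 0 e (w₀ • c)
        obtain ⟨b3, b2, b1, b0⟩ := crd_TS hm hF hπ 0 1 (w₀ • A e c)
        obtain ⟨c3, c2, c1, c0⟩ := crd_fixU hm hF hπ hc2
        obtain ⟨g3, g2, g1, g0⟩ := crd_W hm hF hπ hc
        obtain ⟨k3, k2, k1, k0⟩ := crd_W hm hF hπ hce
        simp only [g3, g2, g1, g0, k3, k2, k1, k0, th_zero hS, scal_zero, scal_one, scal_apply_zero, add_zero,
          zero_mul, zero_add, fO, mul_zero, zero_pow, ne_eq, OfNat.ofNat_ne_zero, not_false_iff, th_one hS]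
          at a3 a2 a1 a0 b3 b2 b1 b0
        refine eq_of_crd hm hF hπ fun j => ?_
        rw [map_zero, map_add, map_add, map_add, map_add]
        fin_cases j
        · rw [show ((⟨0, by omega⟩ : Fin 4)) = 0 from rfl, a0, b0, c0, g0, k0, add_zero, add_zero,
            scal_add hm hF hπ hc,
            show ∀ p q : Ω, p + q + (p + q) = (p + p) + (q + q) from fun p q => by abel, hg.two, hg.two,
            add_zero]
        · rw [show ((⟨1, by omega⟩ : Fin 4)) = 1 from rfl, a1, b1, c1, g1, k1, add_zero, add_zero,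
            hg.two]
        · rw [show ((⟨2, by omega⟩ : Fin 4)) = 2 from rfl, a2, b2, c2, g2, k2, add_zero, add_zero, add_zero]
        · rw [show ((⟨3, by omega⟩ : Fin 4)) = 3 from rfl, a3, b3, c3, g3, k3, hg.two, hg.two, add_zero, add_zero]
      rw [← sub_eq_plus hg.two (TS hF 0 e • w₀ • c), ← sub_eq_plus hg.two (z₁ • w₀ • A e c),
        ← sub_eq_plus hg.two, ← sub_eq_plus hg.two] at e1
      exact congrArg Subtype.val e1
    have hwΩ : w ∈ Ω := (hΩmem _).2 hw2
    set r : Ω := ⟨w, hwΩ⟩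
    have hfx : ∀ b, δ (TS hF 0 b) γ'' ∈ Ω := fun b => (hΩmem _).2 (by
      rw [← hδadd, h'']
      show TS hF 0 b • ((A (th m e + e) c : Ω) : N) - _ = 0
      rw [sub_eq_zero]; exact congrArg Subtype.val (hc2 0 b))
    have hsplit : ∀ b, ΔT b e γ c h = ΔT b 1 γ' (A e c) h' + (TS hF 0 b • r + r) + ⟨_, hfx b⟩ := by
      intro b
      rw [← sub_eq_plus hg.two (TS hF 0 b • r)]
      refine Subtype.ext ?_
      show δ (TS hF 0 b) (δ (TS hF 0 e) (w₀ • γ)) =
        δ (TS hF 0 b) (δ z₁ (w₀ • γ')) + δ (TS hF 0 b) w + δ (TS hF 0 b) γ''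
      rw [← hδadd, ← hδadd, hw]
      congr 1
      abel
    have hG1 : ∀ b, G b e γ c h = G b 1 γ' (A e c) h' + A b (crd hF (nOne (m := m) hF) 3 r) := by
      intro b
      have hfix : (⟨_, hfx b⟩ : Ω) ∈ fixU (m := m) hF := hg.fix _ (Subtype.ext (by
        show u₁ • δ (TS hF 0 b) γ'' = δ (TS hF 0 b) γ''
        simp only [δ, smul_sub, ← mul_smul]
        rw [← TS_comm, mul_smul, hu'']))
      obtain ⟨a3, a2, a1, a0⟩ := crd_TS hm hF hπ 0 b r
      rw [th_zero hS, scal_zero, add_zero] at a1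
      show crd hF _ 1 _ = crd hF _ 1 _ + _
      rw [hsplit b, map_add, map_add, map_add, (crd_fixU hm hF hπ hfix).2.2.1, add_zero, a1,
        show ∀ p q : Ω, p + q + p = q + (p + p) from fun p q => by abel, hg.two, add_zero]
    have h1 := hG1 1
    rw [hGdiag 1 h' hce, scal_one, scal_one] at h1
    rw [hG1 b, h1, show ∀ p q : Ω, p + q + p = q + (p + p) from fun p q => by abel, hg.two, add_zero]
  -- averaging
  have hcΩ : c₀ ∈ Ω := hDΩ _ hcD
  set c : Ω := ⟨c₀, hcΩ⟩
  have hcfix : c ∈ fixU (m := m) hF := fun a b => Subtype.ext (congrArg Subtype.val (hc a b) :)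
  have hAD : ∀ x : F, ((A x c : Ω) : N) ∈ D := by
    intro x
    rcases eq_or_ne x 0 with rfl | hx
    · rw [scal_zero]; exact zero_mem D
    · rw [scal, dif_neg hx]; exact hDi _ _ hcD
  choose! γf hγ1 hγ2 using hlift
  let h : F → Ω → Ω := fun b d => if hd : (d : N) ∈ D ∧ d ∈ fixU (m := m) hF then
    G b 1 (γf d) d (hγ1 d hd.1 hd.2) else 0
  obtain ⟨b, hb0, hb1⟩ := exists_not_zero_one hF hm
  have hdiag : ∀ x : F, A b (A x c) = h b (A b (A x c)) + A b (h b (A x c)) + A b (A b (A x c)) := by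
    intro x
    have hxf := scal_mem hF hcfix x
    have hxD := hAD x
    have hbD : ((A b (A x c) : Ω) : N) ∈ D := by rw [← scal_mul]; exact hAD _
    have hbf := scal_mem hF hxf b
    have e := hG0 b b (hγ1 _ hxD hxf) hxf hxD (hγ1 _ hbD hbf)
    rw [hGdiag b (hγ1 _ hxD hxf) hxf, hGsymm 1 b (hγ1 _ hxD hxf)] at e
    simp only [h, dif_pos (And.intro hxD hxf), dif_pos (And.intro hbD hbf)]
    rw [scal_map_add, ← add_assoc] at e
    exact e
  have hscalsum : ∀ (d : Ω), d ∈ fixU (m := m) hF → (∑ l : F, A (l * l⁻¹) d) = d := by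
    intro d hd
    let φ : F →+ Ω := AddMonoidHom.mk' (fun x => A x d) (fun x y => scal_add hm hF hπ hd x y)
    show (∑ l : F, φ (l * l⁻¹)) = d
    rw [← map_sum, show (∑ l : F, l * l⁻¹) = 1 by
      have := sum_frob_div hF (i := 0) (by omega)
      simpa [frob] using this]
    exact scal_one hF d
  set S := ∑ l : F, A l (h b (A l⁻¹ c)) with hSdef
  have e1 : ∀ l : F, A l (A b (A l⁻¹ c)) = A (l * l⁻¹) (A b c) := fun l => by
    simp only [← scal_mul]; congr 1; ring
  have hsum : A b c = A b S + A b S + A b (A b c) := by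
    have h0 : (∑ l : F, A l (A b (A l⁻¹ c))) = A b c := by
      rw [Finset.sum_congr rfl fun l _ => e1 l]; exact hscalsum _ (scal_mem hF hcfix b)
    have hmap : ∀ (x : F) (g : F → Ω), A x (∑ l : F, g l) = ∑ l : F, A x (g l) := fun x g =>
      map_sum (AddMonoidHom.mk' (fun v : Ω => A x v) (scal_map_add hF x)) g _
    have hA : (∑ l : F, A l (h b (A b (A l⁻¹ c)))) = A b S := by
      rw [hSdef, hmap]
      refine (Fintype.sum_equiv (Equiv.mulLeft₀ b hb0) _ _ fun l => ?_).symm
      show A b (A l (h b (A l⁻¹ c))) = A (b * l) (h b (A b (A (b * l)⁻¹ c)))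
      rw [← scal_mul hF b l, ← scal_mul hF b, mul_inv_rev, mul_comm l⁻¹, ← mul_assoc, mul_inv_cancel₀ hb0, one_mul]
    have hB : (∑ l : F, A l (A b (h b (A l⁻¹ c)))) = A b S := by
      rw [hSdef, hmap]
      exact Finset.sum_congr rfl fun l _ => by rw [← scal_mul, ← scal_mul, mul_comm]
    have hC : (∑ l : F, A l (A b (A b (A l⁻¹ c)))) = A b (A b c) := by
      conv_rhs => rw [← h0]
      rw [hmap]
      exact Finset.sum_congr rfl fun l _ => by simp only [← scal_mul]; congr 1; ring
    have := h0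
    conv_lhs at this => arg 2; ext l; rw [hdiag l⁻¹, scal_map_add, scal_map_add]
    rw [Finset.sum_add_distrib, Finset.sum_add_distrib, hA, hB, hC] at this
    exact this.symm
  rw [hg.two, zero_add, ← scal_mul, ← sub_eq_zero, sub_eq_plus hg.two, ← scal_add hm hF hπ hcfix] at hsum
  have hne : b + b * b ≠ 0 := fun e => by
    rcases eq_zero_or_one (k := b) (by rw [← neg_eq hS (b * b), ← eq_neg_of_add_eq_zero_left e]) with e | e
    · exact hb0 e
    · exact hb1 e
  have h9 := congrArg (A (b + b * b)⁻¹) hsum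
  rw [← scal_mul, inv_mul_cancel₀ hne, scal_one, scal_apply_zero] at h9
  exact hc0' (congrArg Subtype.val h9)

end CfsgLib.CIT.Suz
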